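import Mathlib

/-!
# Preliminaries on 2-transitive groups with point stabilisers whose Sylow subgroups are cyclic

Elementary lemmas: a Z-group has at most one involution up to commuting, the automorphisms of
order two of a cyclic 2-group, and the decomposition of a 2-group over a semiregular cyclic
subgroup.
-/

set_option autoImplicit false

namespace CfsgLib.ZFact

open MulAction

variable {G : Type*} [Group G] [Finite G] {Ω : Type*} [MulAction G Ω]

variable (G Ω) in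
/-- All point stabilisers are Z-groups. -/
def ZStab : Prop := ∀ ω : Ω, IsZGroup ↥(stabilizer G ω)

variable (Ω) in
/-- No power of `a` other than the identity fixes a point. -/
def Semiregular (a : G) : Prop := ∀ i : ℤ, ∀ ω : Ω, a ^ i • ω = ω → a ^ i = 1

theorem Semiregular.conj {a : G} (h : Semiregular Ω a) (g : G) : Semiregular Ω (g * a * g⁻¹) := by
  intro i ω hω
  rw [conj_zpow, mul_smul, mul_smul] at hω
  have h1 := h i (g⁻¹ • ω) (by
    calc a ^ i • g⁻¹ • ω = g⁻¹ • g • a ^ i • g⁻¹ • ω := (inv_smul_smul g _).symm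
      _ = g⁻¹ • ω := by rw [hω])
  rw [conj_zpow, h1, mul_one, mul_inv_cancel]

/-- Two commuting involutions of a Z-group are equal. -/
theorem eq_of_commute_of_isZGroup {H : Subgroup G} (hH : IsZGroup H) {x y : G} (hx : x ∈ H)
    (hy : y ∈ H) (hx2 : orderOf x = 2) (hy2 : orderOf y = 2) (hxy : x * y = y * x) : x = y := by
  classical
  haveI : Fact (Nat.Prime 2) := ⟨Nat.prime_two⟩
  haveI := hH
  by_contra hne
  let x' : H := ⟨x, hx⟩
  let y' : H := ⟨y, hy⟩
  have hx' : orderOf x' = 2 := by rw [Subgroup.orderOf_mk]; exact hx2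
  have hy' : orderOf y' = 2 := by rw [Subgroup.orderOf_mk]; exact hy2
  have hxy' : x' * y' = y' * x' := Subtype.ext hxy
  have hp : IsPGroup 2 (Subgroup.zpowers x') :=
    IsPGroup.of_card (n := 1) (by rw [Nat.card_zpowers, hx', pow_one])
  have hq : IsPGroup 2 (Subgroup.zpowers y') :=
    IsPGroup.of_card (n := 1) (by rw [Nat.card_zpowers, hy', pow_one])
  have hle : Subgroup.zpowers x' ≤ Subgroup.normalizer (Subgroup.zpowers y' : Set H) := by
    rw [Subgroup.zpowers_le]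
    apply Subgroup.centralizer_le_normalizer
    intro w hw
    obtain ⟨i, rfl⟩ := Subgroup.mem_zpowers_iff.1 hw
    exact ((show Commute x' y' from hxy').zpow_right i).symm.eq
  have hs := IsPGroup.to_sup_of_normal_right' hp hq hle
  haveI := hs.isCyclic_of_isZGroup
  set S := Subgroup.zpowers x' ⊔ Subgroup.zpowers y' with hS
  let u : S := ⟨x', le_sup_left (a := Subgroup.zpowers x') (Subgroup.mem_zpowers x')⟩
  let v : S := ⟨y', le_sup_right (a := Subgroup.zpowers x') (Subgroup.mem_zpowers y')⟩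
  haveI : Fintype S := Fintype.ofFinite S
  have h := IsCyclic.card_pow_eq_one_le (α := S) (n := 2) (by norm_num)
  have hu1 : u ^ 2 = 1 := Subtype.ext (hx' ▸ pow_orderOf_eq_one x')
  have hv1 : v ^ 2 = 1 := Subtype.ext (hy' ▸ pow_orderOf_eq_one y')
  have hsub : ({1, u, v} : Finset S) ⊆ Finset.univ.filter fun g : S => g ^ 2 = 1 := by
    intro g hg
    simp only [Finset.mem_insert, Finset.mem_singleton] at hg
    rcases hg with rfl | rfl | rfl <;> simp [hu1, hv1]
  have h1u : (1 : S) ≠ u := by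
    intro e
    have hx1 : x' = 1 := (congrArg (fun w : S => (w : H)) e).symm
    rw [hx1, orderOf_one] at hx'
    omega
  have h1v : (1 : S) ≠ v := by
    intro e
    have hy1 : y' = 1 := (congrArg (fun w : S => (w : H)) e).symm
    rw [hy1, orderOf_one] at hy'
    omega
  have huv : u ≠ v := fun e => hne (congrArg (fun w : S => ((w : H) : G)) e)
  have h3 : ({1, u, v} : Finset S).card = 3 := by
    simp [h1u, h1v, huv]
  have := (Finset.card_le_card hsub).trans h
  omega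

/-- Two commuting involutions which fix a common point are equal. -/
theorem ZStab.eq_of_commute (hZ : ZStab G Ω) {x y : G} (ω : Ω) (hx : x • ω = ω) (hy : y • ω = ω)
    (hx2 : orderOf x = 2) (hy2 : orderOf y = 2) (hxy : x * y = y * x) : x = y :=
  eq_of_commute_of_isZGroup (hZ ω) (mem_stabilizer_iff.2 hx) (mem_stabilizer_iff.2 hy) hx2 hy2 hxy

/-- A 2-subgroup of a point stabiliser is cyclic. -/
theorem ZStab.isCyclic (hZ : ZStab G Ω) {P : Subgroup G} (hP : IsPGroup 2 P) (ω : Ω) :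
    IsCyclic ↥(P ⊓ stabilizer G ω) := by
  haveI : Fact (Nat.Prime 2) := ⟨Nat.prime_two⟩
  haveI := hZ ω
  have h1 : IsPGroup 2 ↥((P ⊓ stabilizer G ω).subgroupOf (stabilizer G ω)) :=
    (hP.to_le inf_le_left).of_equiv (Subgroup.subgroupOfEquivOfLe inf_le_right).symm
  haveI := h1.isCyclic_of_isZGroup
  exact isCyclic_of_surjective _ (Subgroup.subgroupOfEquivOfLe (inf_le_right :
    P ⊓ stabilizer G ω ≤ stabilizer G ω)).surjective

theorem commute_of_isCyclic {H : Subgroup G} [IsCyclic H] {x y : G} (hx : x ∈ H) (hy : y ∈ H) :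
    x * y = y * x := by
  letI := IsCyclic.commGroup (α := H)
  exact congrArg Subtype.val (mul_comm (⟨x, hx⟩ : H) ⟨y, hy⟩)

omit [Finite G] in
/-- An element normalising a cyclic group acts on it as every conjugate of it does. -/
theorem conj_conj_eq_of_isCyclic {L : Subgroup G} [IsCyclic L] {g x k : G}
    (hg : g ∈ Subgroup.normalizer (L : Set G)) (hx : x ∈ Subgroup.normalizer (L : Set G))
    (hk : k ∈ L) :
    g * x * g⁻¹ * k * (g * x * g⁻¹)⁻¹ = x * k * x⁻¹ := by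
  have hmap : ∀ w ∈ Subgroup.normalizer (L : Set G),
      ∃ m : ℤ, ∀ l ∈ L, w * l * w⁻¹ = l ^ m := by
    intro w hw
    let σ : L →* L :=
      { toFun := fun l => ⟨w * l * w⁻¹, (Subgroup.mem_normalizer_iff.1 hw l).1 l.2⟩
        map_one' := by apply Subtype.ext; simp
        map_mul' := fun l l' => by apply Subtype.ext; simp [mul_assoc] }
    obtain ⟨m, hm⟩ := MonoidHom.map_cyclic σ
    exact ⟨m, fun l hl => by simpa [σ] using congrArg Subtype.val (hm ⟨l, hl⟩)⟩
  obtain ⟨mg, hmg⟩ := hmap g hg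
  obtain ⟨mx, hmx⟩ := hmap x hx
  obtain ⟨mi, hmi⟩ := hmap g⁻¹ (inv_mem hg)
  calc g * x * g⁻¹ * k * (g * x * g⁻¹)⁻¹
      = g * (x * (g⁻¹ * k * g⁻¹⁻¹) * x⁻¹) * g⁻¹ := by group
    _ = ((k ^ mi) ^ mx) ^ mg := by
        rw [hmi k hk, hmx _ (zpow_mem hk _), hmg _ (zpow_mem (zpow_mem hk _) _)]
    _ = ((k ^ mi) ^ mg) ^ mx := by rw [← zpow_mul, ← zpow_mul, mul_comm mx mg, zpow_mul, zpow_mul]
    _ = (g * (g⁻¹ * k * g⁻¹⁻¹) * g⁻¹) ^ mx := by rw [hmi k hk, hmg _ (zpow_mem hk _)]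
    _ = x * k * x⁻¹ := by
        rw [hmx k hk]
        congr 1
        group

/-- The involution of a cyclic 2-group: facts about `a ^ 2 ^ (s - 1)`. -/
theorem orderOf_half {a : G} {s : ℕ} (hs : 1 ≤ s) (ha : orderOf a = 2 ^ s) :
    orderOf (a ^ 2 ^ (s - 1)) = 2 := by
  obtain ⟨t, rfl⟩ := Nat.exists_eq_add_of_le hs
  rw [orderOf_pow, ha, show 1 + t - 1 = t by omega, Nat.gcd_eq_right (pow_dvd_pow 2 (by omega)),
    Nat.pow_div (by omega) (by norm_num), show 1 + t - t = 1 by omega, pow_one]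

theorem zpow_eq_one_or_half {a : G} {s : ℕ} (hs : 1 ≤ s) (ha : orderOf a = 2 ^ s) {i : ℤ}
    (h : (a ^ i) ^ 2 = 1) : a ^ i = 1 ∨ a ^ i = a ^ 2 ^ (s - 1) := by
  have h1 : a ^ (i * 2) = 1 := by rw [zpow_mul]; exact_mod_cast h
  rw [← orderOf_dvd_iff_zpow_eq_one, ha] at h1
  have hh : ((2 ^ s : ℕ) : ℤ) = ((2 ^ (s - 1) : ℕ) : ℤ) * 2 := by
    rw [← show s - 1 + 1 = s by omega]
    push_cast
    rw [pow_succ]
  rw [hh] at h1
  obtain ⟨j, hj⟩ := (mul_dvd_mul_iff_right (by norm_num)).1 h1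
  have hz : (a ^ 2 ^ (s - 1)) ^ 2 = 1 := by
    have h := pow_orderOf_eq_one (a ^ 2 ^ (s - 1))
    rwa [orderOf_half hs ha] at h
  have hz2 : (a ^ 2 ^ (s - 1)) ^ (2 : ℤ) = 1 := by exact_mod_cast hz
  rw [hj, zpow_mul, zpow_natCast]
  rcases Int.even_or_odd j with ⟨k, rfl⟩ | ⟨k, rfl⟩
  · left
    rw [← two_mul, zpow_mul, hz2, one_zpow]
  · right
    rw [zpow_add, zpow_mul, hz2, one_zpow, one_mul, zpow_one]

theorem int_split {e : ℕ} {t : ℤ} (h : (2 : ℤ) ^ e ∣ t * (t + 1)) :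
    (2 : ℤ) ^ e ∣ t ∨ (2 : ℤ) ^ e ∣ t + 1 := by
  rcases Int.even_or_odd t with ht | ht
  · left
    have hc : IsCoprime ((2 : ℤ) ^ e) (t + 1) := by
      apply IsCoprime.pow_left
      obtain ⟨k, rfl⟩ := ht
      exact ⟨-k, 1, by ring⟩
    exact hc.dvd_of_dvd_mul_right h
  · right
    have hc : IsCoprime ((2 : ℤ) ^ e) t := by
      apply IsCoprime.pow_left
      obtain ⟨k, rfl⟩ := ht
      exact ⟨-k, 1, by ring⟩
    exact hc.dvd_of_dvd_mul_left h

/-- An element inducing an automorphism of order at most two on a cyclic group of order `2 ^ s`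
multiplies a generator by its involution, or inverts it, or both. -/
theorem conj_cases {a x : G} {s : ℕ} (hs : 2 ≤ s) (ha : orderOf a = 2 ^ s)
    (hn : x * a * x⁻¹ ∈ Subgroup.zpowers a) (hsq : x * (x * a * x⁻¹) * x⁻¹ = a) :
    x * a * x⁻¹ = a ∨ x * a * x⁻¹ = a * a ^ 2 ^ (s - 1) ∨ x * a * x⁻¹ = a⁻¹ ∨
      x * a * x⁻¹ = a⁻¹ * a ^ 2 ^ (s - 1) := by
  obtain ⟨u, hu⟩ := Subgroup.mem_zpowers_iff.1 hn
  have hu2 : a ^ (u * u - 1) = 1 := by
    have : x * a ^ u * x⁻¹ = a := by rw [hu]; exact hsq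
    rw [← conj_zpow, ← hu, ← zpow_mul] at this
    rw [zpow_sub_one, this, mul_inv_cancel]
  rw [← orderOf_dvd_iff_zpow_eq_one, ha] at hu2
  push_cast at hu2
  obtain ⟨s, rfl⟩ := Nat.exists_eq_add_of_le hs
  have hodd : Odd u := by
    rcases Int.even_or_odd u with ⟨k, rfl⟩ | h
    · exfalso
      have h2 : (2 : ℤ) ∣ (k + k) * (k + k) - 1 := (dvd_pow_self 2 (by omega)).trans hu2
      obtain ⟨c, hc⟩ := h2
      have : (2 : ℤ) * (2 * k * k - c) = 1 := by linarith
      omega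
    · exact h
  obtain ⟨t, rfl⟩ := hodd
  rw [show (2 * t + 1) * (2 * t + 1) - 1 = 2 ^ 2 * (t * (t + 1)) by ring, pow_add] at hu2
  have ht := int_split ((mul_dvd_mul_iff_left (by norm_num)).1 hu2)
  have key : ∀ v : ℤ, (2 : ℤ) ^ s ∣ v → (a ^ (2 * v)) ^ 2 = 1 := by
    intro v ⟨w, hw⟩
    rw [← zpow_natCast, ← zpow_mul, ← orderOf_dvd_iff_zpow_eq_one, ha]
    exact ⟨w, by rw [hw]; push_cast; ring⟩
  rcases ht with h | h
  · rcases zpow_eq_one_or_half (by omega) ha (key t h) with e | e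
    · left
      rw [← hu, zpow_add, zpow_one, e, one_mul]
    · right; left
      rw [← hu, add_comm, zpow_add, zpow_one, e]
  · rcases zpow_eq_one_or_half (by omega) ha (key (t + 1) h) with e | e
    · right; right; left
      rw [← hu, show (2 * t + 1) = -1 + 2 * (t + 1) by ring, zpow_add, e, mul_one, zpow_neg_one]
    · right; right; right
      rw [← hu, show (2 * t + 1) = -1 + 2 * (t + 1) by ring, zpow_add, e, zpow_neg_one]

theorem card_mul_le {a : G} {s : ℕ} (ha : orderOf a = 2 ^ s) (hsemi : Semiregular Ω a)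
    {P : Subgroup G} (haP : a ∈ P) (ω : Ω) :
    2 ^ s * Nat.card ↥(P ⊓ stabilizer G ω) ≤ Nat.card P := by
  rw [← ha, ← Nat.card_zpowers a, ← Nat.card_prod]
  refine Nat.card_le_card_of_injective
    (fun p : Subgroup.zpowers a × ↥(P ⊓ stabilizer G ω) =>
      (⟨(p.1 : G) * p.2, mul_mem (Subgroup.zpowers_le.2 haP p.1.2) p.2.2.1⟩ : P)) ?_
  rintro ⟨⟨u, hu⟩, ⟨w, hw⟩⟩ ⟨⟨u', hu'⟩, ⟨w', hw'⟩⟩ h
  simp only [Subtype.mk.injEq] at h
  obtain ⟨i, rfl⟩ := Subgroup.mem_zpowers_iff.1 hu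
  obtain ⟨i', rfl⟩ := Subgroup.mem_zpowers_iff.1 hu'
  have h2 : a ^ (-i' + i) = w' * w⁻¹ := by
    rw [zpow_add, zpow_neg, eq_mul_inv_iff_mul_eq, mul_assoc, h, inv_mul_cancel_left]
  have hfix : w' * w⁻¹ ∈ stabilizer G ω := mul_mem hw'.2 (inv_mem hw.2)
  rw [← h2, mem_stabilizer_iff] at hfix
  have h3 := hsemi _ _ hfix
  rw [h3, eq_comm, mul_inv_eq_one] at h2
  subst h2
  have h4 := mul_right_cancel h
  simp [h4]

/-- The orbit of `ω` under `P` is that of `a`. -/
theorem decomposition {a : G} {s : ℕ} (ha : orderOf a = 2 ^ s) (hsemi : Semiregular Ω a)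
    {P : Subgroup G} (haP : a ∈ P) {ω : Ω}
    (hcard : Nat.card P ≤ 2 ^ s * Nat.card ↥(P ⊓ stabilizer G ω)) {x : G} (hx : x ∈ P) :
    ∃ i : ℤ, ∃ w ∈ P ⊓ stabilizer G ω, x = a ^ i * w := by
  classical
  let f : Subgroup.zpowers a × ↥(P ⊓ stabilizer G ω) → P := fun p =>
    ⟨(p.1 : G) * p.2, mul_mem (Subgroup.zpowers_le.2 haP p.1.2) p.2.2.1⟩
  have hinj : Function.Injective f := by
    rintro ⟨⟨u, hu⟩, ⟨w, hw⟩⟩ ⟨⟨u', hu'⟩, ⟨w', hw'⟩⟩ h
    simp only [f, Subtype.mk.injEq] at h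
    obtain ⟨i, rfl⟩ := Subgroup.mem_zpowers_iff.1 hu
    obtain ⟨i', rfl⟩ := Subgroup.mem_zpowers_iff.1 hu'
    have h2 : a ^ (-i' + i) = w' * w⁻¹ := by
      rw [zpow_add, zpow_neg, eq_mul_inv_iff_mul_eq, mul_assoc, h, inv_mul_cancel_left]
    have hfix : w' * w⁻¹ ∈ stabilizer G ω := mul_mem hw'.2 (inv_mem hw.2)
    rw [← h2, mem_stabilizer_iff] at hfix
    have h3 := hsemi _ _ hfix
    rw [h3, eq_comm, mul_inv_eq_one] at h2
    subst h2
    simp [mul_right_cancel h]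
  have hbij := (Nat.bijective_iff_injective_and_card f).2 ⟨hinj, by
    rw [Nat.card_prod, Nat.card_zpowers, ha]
    exact le_antisymm (card_mul_le ha hsemi haP ω) hcard⟩
  obtain ⟨⟨⟨u, hu⟩, ⟨w, hw⟩⟩, hp⟩ := hbij.2 ⟨x, hx⟩
  obtain ⟨i, rfl⟩ := Subgroup.mem_zpowers_iff.1 hu
  exact ⟨i, w, hw, (congrArg Subtype.val hp).symm⟩

/-- An element of 2-power order normalising a Sylow 2-subgroup lies in it. -/
theorem mem_of_mem_normalizer (P : Sylow 2 G) {g : G}
    (hg : g ∈ Subgroup.normalizer ((P : Subgroup G) : Set G)) {e : ℕ} (he : orderOf g ∣ 2 ^ e) :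
    g ∈ (P : Subgroup G) := by
  haveI : Fact (Nat.Prime 2) := ⟨Nat.prime_two⟩
  obtain ⟨k, -, hk⟩ := (Nat.dvd_prime_pow Nat.prime_two).1 he
  have hp : IsPGroup 2 (Subgroup.zpowers g) :=
    IsPGroup.of_card (n := k) (by rw [Nat.card_zpowers, hk])
  have hs := IsPGroup.to_sup_of_normal_right' hp P.isPGroup' (Subgroup.zpowers_le.2 hg)
  have heq := P.is_maximal' hs le_sup_right
  exact heq ▸ Subgroup.mem_sup_left (Subgroup.mem_zpowers g)

/-- A nontrivial odd normal subgroup and a nontrivial centre are absent from a faithful 2-transitive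
group of even degree at least four. -/
theorem oddNormal_eq_bot [Finite Ω] [FaithfulSMul G Ω] (h2 : IsMultiplyPretransitive G Ω 2)
    (heven : Even (Nat.card Ω)) (N : Subgroup G) [N.Normal] (hN : Odd (Nat.card N)) : N = ⊥ := by
  haveI := MulAction.isPreprimitive_of_is_two_pretransitive h2
  by_contra hne
  rcases isEmpty_or_nonempty Ω with hΩ | hΩ
  · exact hne ((Subgroup.eq_bot_iff_forall N).2 fun g _ =>
      eq_of_smul_eq_smul fun ω : Ω => isEmptyElim ω)
  have hfix : fixedPoints N Ω ≠ .univ := by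
    intro h
    apply hne
    rw [Subgroup.eq_bot_iff_forall]
    intro g hg
    apply eq_of_smul_eq_smul (α := Ω)
    intro ω
    rw [one_smul]
    have hω : ω ∈ fixedPoints N Ω := h ▸ Set.mem_univ ω
    exact mem_fixedPoints.1 hω ⟨g, hg⟩
  haveI := IsQuasiPreprimitive.isPretransitive_of_normal hfix
  obtain ⟨ω⟩ := hΩ
  have h := index_stabilizer_of_transitive N ω
  have hdvd : Nat.card Ω ∣ Nat.card N := h ▸ Subgroup.index_dvd_card _
  exact Nat.not_odd_iff_even.2 (heven.trans_dvd hdvd) hN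

theorem center_eq_bot [Finite Ω] [FaithfulSMul G Ω] (h2 : IsMultiplyPretransitive G Ω 2)
    (h4 : 3 ≤ Nat.card Ω) : Subgroup.center G = ⊥ := by
  classical
  haveI : Fintype Ω := Fintype.ofFinite Ω
  rw [Subgroup.eq_bot_iff_forall]
  intro g hg
  apply eq_of_smul_eq_smul (α := Ω)
  intro ω
  rw [one_smul]
  by_contra hne
  obtain ⟨β, hβ⟩ : ∃ β : Ω, β ∉ ({ω, g • ω} : Finset Ω) := by
    by_contra hall
    push_neg at hall
    have : (Finset.univ : Finset Ω) ⊆ {ω, g • ω} := fun x _ => hall x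
    have := (Finset.card_le_card this).trans Finset.card_le_two
    rw [Finset.card_univ, ← Nat.card_eq_fintype_card] at this
    omega
  simp only [Finset.mem_insert, Finset.mem_singleton, not_or] at hβ
  obtain ⟨k, hk1, hk2⟩ := (is_two_pretransitive_iff.1 h2) (Ne.symm hne) (Ne.symm hβ.1)
  apply hβ.2
  rw [← hk2, ← mul_smul, Subgroup.mem_center_iff.1 hg k, mul_smul, hk1]

end CfsgLib.ZFact
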