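import Cfsg.Agent.Lib.ZFact.Setup
import Cfsg.Agent.Lib.Involutions.BrauerSuzuki
import Cfsg.Agent.Lib.Cores.PerfectCore
import Cfsg.Prelude.Def_CaseTheorems

/-!
# The centraliser of a fixed-point involution acting on its fixed points

`G` is 2-transitive with Z-group point stabilisers, `P` a 2-subgroup containing a Sylow 2-subgroup
of `C(b)`, and `c` an element of order `2 ^ t ≥ 4` commuting with `b`, semiregular, with
`P ∩ C(b) = ⟨c⟩ (P ∩ G_α)`. Assuming the structure theorem in smaller degree, the group induced on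
the fixed points of `b` has dihedral Sylow 2-subgroups, and the involution of `⟨c⟩` is conjugate in
`C(b)` to an element acting as a reflection.
-/

set_option autoImplicit false
set_option linter.style.haveILetI false
open Cfsg

namespace CfsgLib.ZFact

open MulAction

universe u

variable {G : Type u} [Group G]

/-- `x` inverts `a`, or inverts it up to the involution of `⟨a⟩`. -/
def Good (s : ℕ) (a x : G) : Prop :=
  x * a * x⁻¹ = a⁻¹ ∨ (3 ≤ s ∧ x * a * x⁻¹ = a⁻¹ * a ^ 2 ^ (s - 1))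

/-- The structure of the Sylow 2-subgroups: order at most `2 ^ (s + 1)`, and involutions fixing
points invert the semiregular element up to its involution. -/
def Small (G Ω : Type u) [Group G] [MulAction G Ω] : Prop :=
  ∀ (P : Sylow 2 G) (a : G), a ∈ (P : Subgroup G) → ∀ s : ℕ, 2 ≤ s → orderOf a = 2 ^ s →
    Semiregular Ω a → ¬ 2 ^ (s + 1) ∣ Nat.card Ω →
    Nat.card (P : Subgroup G) ≤ 2 ^ (s + 1) ∧
      ∀ x ∈ (P : Subgroup G), orderOf x = 2 → ∀ ω : Ω, x • ω = ω → Good s a x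

/-- The structure theorem in degree less than `N`. -/
def SmallBelow (N : ℕ) : Prop :=
  ∀ (H Δ : Type u) [Group H] [Finite H] [MulAction H Δ] [FaithfulSMul H Δ] [Finite Δ],
    Nat.card Δ < N → IsMultiplyPretransitive H Δ 2 → ZStab H Δ → Small H Δ

/-- `x` fixes every fixed point of `b`. -/
def InKer (Ω : Type u) [MulAction G Ω] (b x : G) : Prop := ∀ γ : Ω, b • γ = γ → x • γ = γ

variable [Finite G]

theorem exists_sylow_of_max {H S : Subgroup G} (hSH : S ≤ H) (hS : IsPGroup 2 S)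
    (hmax : ∀ Q : Subgroup G, Q ≤ H → IsPGroup 2 Q → Nat.card Q ≤ Nat.card S) :
    ∃ T : Sylow 2 H, (T : Subgroup H) = S.subgroupOf H := by
  haveI : Fact (Nat.Prime 2) := ⟨Nat.prime_two⟩
  obtain ⟨T, hT⟩ := (hS.of_equiv (Subgroup.subgroupOfEquivOfLe hSH).symm).exists_le_sylow
  refine ⟨T, (Subgroup.eq_of_le_of_card_ge hT ?_).symm⟩
  rw [Nat.card_congr (Subgroup.subgroupOfEquivOfLe hSH).toEquiv]
  refine le_trans (le_of_eq ?_) (hmax ((T : Subgroup H).map H.subtype)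
    (Subgroup.map_subtype_le _) (T.isPGroup'.map _))
  rw [Subgroup.card_map_of_injective H.subtype_injective]

variable {Ω : Type u} [MulAction G Ω] [FaithfulSMul G Ω] [Finite Ω]

set_option maxHeartbeats 1000000 in
theorem exists_fused (h2 : IsMultiplyPretransitive G Ω 2) (hZ : ZStab G Ω)
    (hIH : SmallBelow.{u} (Nat.card Ω)) {P : Subgroup G} (hP : IsPGroup 2 P) {α : Ω} {b c : G}
    {t : ℕ} (ht : 2 ≤ t) (hc : orderOf c = 2 ^ t) (hcP : c ∈ P) (hcb : c * b = b * c)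
    (hsemi : Semiregular Ω c) (hbP : b ∈ P) (hb : orderOf b = 2) (hbα : b • α = α)
    (hS : ∀ x ∈ P, x * b = b * x → ∃ i : ℤ, ∃ w ∈ P ⊓ stabilizer G α, x = c ^ i * w)
    (hmax : ∀ Q : Subgroup G, Q ≤ Subgroup.centralizer ({b} : Set G) → IsPGroup 2 Q →
      Nat.card Q ≤ Nat.card ↥(P ⊓ Subgroup.centralizer ({b} : Set G))) :
    ∃ v g w : G, ∃ j : ℤ, v ∈ P ∧ v * b = b * v ∧ g * b = b * g ∧
      v = g * c ^ 2 ^ (t - 1) * g⁻¹ ∧ orderOf v = 2 ∧ Odd j ∧ w ∈ P ⊓ stabilizer G α ∧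
      ¬ InKer Ω b w ∧ v = c ^ j * w ∧
      (∀ k ∈ P ⊓ stabilizer G α, InKer Ω b k → c * k = k * c) ∧
      InKer Ω b (w * c * w⁻¹ * c) ∧ InKer Ω b (w * w) ∧
      (∀ x ∈ P, x * b = b * x → ∃ i : ℤ,
        InKer Ω b ((c ^ i)⁻¹ * x) ∨ InKer Ω b ((c ^ i * w)⁻¹ * x)) := by
  classical
  haveI : Fact (Nat.Prime 2) := ⟨Nat.prime_two⟩
  set C : Subgroup G := Subgroup.centralizer ({b} : Set G) with hCdef
  have hmemC : ∀ x : G, x ∈ C ↔ x * b = b * x := fun x =>
    Subgroup.mem_centralizer_singleton_iff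
  set S : Subgroup G := P ⊓ C with hSdef
  have hS2 : IsPGroup 2 S := hP.to_le inf_le_left
  haveI hcyc := hZ.isCyclic hP α
  have hwC : ∀ w ∈ P ⊓ stabilizer G α, w ∈ C := fun w hw =>
    (hmemC w).2 (commute_of_isCyclic hw ⟨hbP, hbα⟩)
  have hcC : c ∈ C := (hmemC c).2 hcb
  have hcS : c ∈ S := ⟨hcP, hcC⟩
  set z : G := c ^ 2 ^ (t - 1) with hzdef
  have hz : orderOf z = 2 := orderOf_half (by omega) hc
  have hzsemi : ∀ γ : Ω, z • γ ≠ γ := by
    intro γ h
    have h1 := hsemi ((2 ^ (t - 1) : ℕ) : ℤ) γ (by rw [zpow_natCast]; exact h)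
    rw [zpow_natCast, ← hzdef] at h1
    rw [h1, orderOf_one] at hz
    omega
  -- the group induced on the fixed points
  haveI : Finite (Fix Ω b) := inferInstanceAs (Finite {γ : Ω // b • γ = γ})
  set φ := fixedHom Ω b with hφdef
  set L : Subgroup G := S ⊓ fixingSubgroup G {γ : Ω | b • γ = γ} with hLdef
  have hmemL : ∀ x : G, x ∈ L ↔ x ∈ S ∧ InKer Ω b x := fun x => by
    rw [hLdef, Subgroup.mem_inf, mem_fixingSubgroup_iff]
    rfl
  have hLle : L ≤ P ⊓ stabilizer G α := fun x hx =>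
    ⟨((hmemL x).1 hx).1.1, ((hmemL x).1 hx).2 α hbα⟩
  haveI hLcyc : IsCyclic L := Subgroup.isCyclic_of_le hLle
  have hSn : S ≤ Subgroup.normalizer (L : Set G) := by
    intro x hx
    rw [Subgroup.mem_normalizer_iff]
    have hconj : ∀ y : G, y ∈ S → ∀ l ∈ L, y * l * y⁻¹ ∈ L := by
      intro y hy l hl
      refine (hmemL _).2 ⟨mul_mem (mul_mem hy ((hmemL l).1 hl).1) (inv_mem hy), fun γ hγ => ?_⟩
      rw [mul_smul, mul_smul, ((hmemL l).1 hl).2 _ (smul_fix (inv_mem hy.2) hγ), smul_inv_smul]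
    intro l
    refine ⟨hconj x hx l, fun h => ?_⟩
    have := hconj x⁻¹ (inv_mem hx) _ h
    group at this
    simpa using this
  set C1 : Subgroup G := C ⊓ Subgroup.normalizer (L : Set G) with hC1def
  have hSC1 : S ≤ C1 := le_inf inf_le_right hSn
  let φ1 : C1 →* φ.range := φ.rangeRestrict.comp (Subgroup.inclusion inf_le_left)
  -- Frattini
  have hsurj : Function.Surjective φ1 := by
    rintro ⟨_, g, rfl⟩
    obtain ⟨SC, hSC⟩ := exists_sylow_of_max (inf_le_right : S ≤ C) hS2 hmax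
    set K0 := φ.ker with hK0
    let L0 : Subgroup C := (SC : Subgroup C) ⊓ K0
    have hmemL0 : ∀ x : C, x ∈ L0 ↔ (x : G) ∈ L := fun x => by
      rw [hmemL]
      show x ∈ (SC : Subgroup C) ∧ x ∈ K0 ↔ _
      rw [hSC, Subgroup.mem_subgroupOf, MonoidHom.mem_ker, fixedHom_eq_one_iff]
      rfl
    have hL0p : IsPGroup 2 (L0.subgroupOf K0) :=
      (SC.isPGroup'.to_le inf_le_left).of_equiv
        (Subgroup.subgroupOfEquivOfLe (inf_le_right : L0 ≤ K0)).symm
    obtain ⟨Q0, hQ0⟩ := hL0p.exists_le_sylow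
    have hQeq : (Q0 : Subgroup K0).map K0.subtype = L0 := by
      symm
      apply Subgroup.eq_of_le_of_card_ge
      · exact (Subgroup.map_subgroupOf_eq_of_le (inf_le_right : L0 ≤ K0)).ge.trans
          (Subgroup.map_mono hQ0)
      · obtain ⟨T, hT⟩ := (Q0.isPGroup'.map K0.subtype).exists_le_sylow
        obtain ⟨d, hd⟩ := MulAction.exists_smul_eq C T SC
        have hle : ((Q0 : Subgroup K0).map K0.subtype).map (MulAut.conj d).toMonoidHom ≤ L0 := by
          rintro _ ⟨y, hy, rfl⟩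
          refine ⟨?_, ?_⟩
          · rw [← hd]
            exact ⟨y, hT hy, rfl⟩
          · obtain ⟨y', -, rfl⟩ := hy
            exact (inferInstance : K0.Normal).conj_mem _ y'.2 d
        refine le_trans (le_of_eq ?_) (Subgroup.card_le_of_le hle)
        exact (Subgroup.card_map_of_injective
          (K := (Q0 : Subgroup K0).map K0.subtype) (f := (MulAut.conj d).toMonoidHom)
          (MulAut.conj d).injective).symm
    have htop := Sylow.normalizer_sup_eq_top Q0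
    rw [hQeq] at htop
    obtain ⟨n, hn, k, hk, hnk⟩ := Subgroup.mem_sup_of_normal_right.1
      (show g ∈ Subgroup.normalizer (L0 : Set C) ⊔ K0 from htop ▸ Subgroup.mem_top g)
    have hnL : (n : G) ∈ Subgroup.normalizer (L : Set G) := by
      rw [Subgroup.mem_normalizer_iff]
      intro l
      constructor
      · intro hl
        exact (hmemL0 _).1 ((Subgroup.mem_normalizer_iff.1 hn ⟨l, ((hmemL l).1 hl).1.2⟩).1
          ((hmemL0 _).2 hl))
      · intro hl
        have hlC : l ∈ C := by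
          have h1 : (n : G) * l * (n : G)⁻¹ ∈ C := ((hmemL _).1 hl).1.2
          have := mul_mem (mul_mem (inv_mem n.2) h1) n.2
          group at this
          simpa using this
        exact (hmemL0 ⟨l, hlC⟩).1
          ((Subgroup.mem_normalizer_iff.1 hn ⟨l, hlC⟩).2 ((hmemL0 _).2 hl))
    refine ⟨⟨n, n.2, hnL⟩, Subtype.ext ?_⟩
    show φ n = φ g
    rw [← hnk, map_mul, MonoidHom.mem_ker.1 hk, mul_one]
  obtain ⟨T, hT⟩ := exists_sylow_of_max hSC1 hS2
    (fun Q hQ hQ2 => hmax Q (hQ.trans inf_le_left) hQ2)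
  let Sb : Sylow 2 φ.range := T.mapSurjective hsurj
  have hSb : ∀ x : C1, (x : G) ∈ S → φ1 x ∈ (Sb : Subgroup φ.range) := fun x hx => by
    rw [Sylow.coe_mapSurjective]
    exact ⟨x, show x ∈ (T : Subgroup C1) by rw [hT]; exact hx, rfl⟩
  have happly : ∀ (x : C1) (γ : Fix Ω b), ((φ1 x • γ : Fix Ω b)).1 = (x : G) • γ.1 :=
    fun x γ => rfl
  have hker : ∀ x : C1, φ1 x = 1 ↔ InKer Ω b (x : G) := fun x =>
    ⟨fun h => (fixedHom_eq_one_iff _).1 (congrArg Subtype.val h),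
      fun h => Subtype.ext ((fixedHom_eq_one_iff _).2 h)⟩
  -- the hypotheses of the structure theorem
  let α' : Fix Ω b := ⟨α, hbα⟩
  let c1 : C1 := ⟨c, hSC1 hcS⟩
  set p := φ1 c1 with hpdef
  have hpi : ∀ i : ℤ, p ^ i = φ1 (c1 ^ i) := fun i => (map_zpow φ1 c1 i).symm
  have hpsemi : Semiregular (Fix Ω b) p := by
    intro i γ hγ
    rw [hpi] at hγ ⊢
    have h1 : c ^ i • γ.1 = γ.1 := by
      have := congrArg Subtype.val hγ
      rwa [happly, Subgroup.coe_zpow] at this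
    rw [show c1 ^ i = 1 from Subtype.ext (by rw [Subgroup.coe_zpow]; exact hsemi i _ h1), map_one]
  have hp : orderOf p = 2 ^ t := by
    rw [← hc, orderOf_eq_orderOf_iff]
    intro k
    constructor
    · intro h
      have h1 : c ^ (k : ℤ) • α = α := by
        rw [← zpow_natCast, hpi] at h
        have := (hker _).1 h α hbα
        rwa [Subgroup.coe_zpow] at this
      have := hsemi _ _ h1
      rwa [zpow_natCast] at this
    · intro h
      rw [hpdef, ← map_pow, show c1 ^ k = 1 from Subtype.ext (by rw [Subgroup.coe_pow]; exact h),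
        map_one]
  have hpS : p ∈ (Sb : Subgroup φ.range) := hSb c1 hcS
  have hZ' : ZStab φ.range (Fix Ω b) := by
    intro γ
    haveI := hZ γ.1
    let H : Subgroup C := (stabilizer G γ.1).subgroupOf C
    haveI : IsZGroup H :=
      IsZGroup.of_injective (f := (C.subtype.comp H.subtype).codRestrict (stabilizer G γ.1)
        (fun x => x.2)) (fun x y h => Subtype.ext (Subtype.ext
          (congrArg (fun r : stabilizer G γ.1 => (r : G)) h)))
    let f : H →* stabilizer φ.range γ :=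
      (φ.rangeRestrict.comp H.subtype).codRestrict _ fun x => Subtype.ext x.2
    refine IsZGroup.of_surjective (f := f) ?_
    rintro ⟨⟨_, g, rfl⟩, hg⟩
    exact ⟨⟨g, congrArg Subtype.val hg⟩, rfl⟩
  have h2' : IsMultiplyPretransitive φ.range (Fix Ω b) 2 := by
    rw [is_two_pretransitive_iff]
    intro γ₁ γ₂ δ₁ δ₂ hne hne'
    obtain ⟨g, hg1, hg2⟩ := (is_two_pretransitive_iff (G := G) (α := Ω)).1 h2
      (show γ₁.1 ≠ γ₂.1 from fun h => hne (Subtype.ext h))
      (show δ₁.1 ≠ δ₂.1 from fun h => hne' (Subtype.ext h))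
    have hb1 : (g * b * g⁻¹) • δ₁.1 = δ₁.1 := by
      rw [mul_smul, mul_smul, ← hg1, inv_smul_smul, γ₁.2]
    have hb2 : (g * b * g⁻¹) • δ₂.1 = δ₂.1 := by
      rw [mul_smul, mul_smul, ← hg2, inv_smul_smul, γ₂.2]
    haveI := hZ δ₁.1
    have hH : IsZGroup ↥(stabilizer G δ₁.1 ⊓ stabilizer G δ₂.1) :=
      IsZGroup.of_injective (f := Subgroup.inclusion inf_le_left)
        (Subgroup.inclusion_injective _)
    obtain ⟨h, hh, hhe⟩ := exists_conj_of_isZGroup hH (x := g * b * g⁻¹) (y := b) ⟨hb1, hb2⟩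
      ⟨δ₁.2, δ₂.2⟩
      (by rw [show g * b * g⁻¹ = MulAut.conj g b from rfl, MulEquiv.orderOf_eq]; exact hb) hb
    have hhgC : h * g ∈ C := (hmemC _).2 (by
      calc h * g * b = (h * (g * b * g⁻¹) * h⁻¹) * (h * g) := by group
        _ = b * (h * g) := by rw [hhe])
    refine ⟨φ.rangeRestrict ⟨h * g, hhgC⟩, Subtype.ext ?_, Subtype.ext ?_⟩
    · show (h * g) • γ₁.1 = δ₁.1
      rw [mul_smul, hg1]
      exact mem_stabilizer_iff.1 hh.1
    · show (h * g) • γ₂.1 = δ₂.1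
      rw [mul_smul, hg2]
      exact mem_stabilizer_iff.1 hh.2
  have hlt : Nat.card (Fix Ω b) < Nat.card Ω := by
    by_contra hge
    have hall : ∀ γ : Ω, b • γ = γ := fun γ => by
      by_contra hne
      exact hge (Finite.card_subtype_lt (p := fun γ : Ω => b • γ = γ) hne)
    have : b = 1 := eq_of_smul_eq_smul (α := Ω) fun γ => by rw [hall, one_smul]
    rw [this, orderOf_one] at hb
    omega
  have hSbform : ∀ x ∈ (Sb : Subgroup φ.range), ∃ i : ℤ, ∃ w : C1, (w : G) ∈ P ⊓ stabilizer G α ∧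
      φ1 w ∈ (Sb : Subgroup φ.range) ⊓ stabilizer φ.range α' ∧ x = p ^ i * φ1 w := by
    intro x hx
    rw [Sylow.coe_mapSurjective] at hx
    obtain ⟨y, hy, rfl⟩ := hx
    have hyS : (y : G) ∈ S := by
      have : y ∈ S.subgroupOf C1 := hT ▸ hy
      exact this
    obtain ⟨i, w, hw, hyw⟩ := hS y hyS.1 ((hmemC _).1 hyS.2)
    have hwS : w ∈ S := ⟨hw.1, hwC w hw⟩
    refine ⟨i, ⟨w, hSC1 hwS⟩, hw, ⟨hSb _ hwS, Subtype.ext ?_⟩, ?_⟩
    · exact mem_stabilizer_iff.1 hw.2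
    · rw [hpi, ← map_mul]
      exact congrArg φ1 (Subtype.ext (by rw [Subgroup.coe_mul, Subgroup.coe_zpow]; exact hyw))
  have hSbcard : Nat.card (Sb : Subgroup φ.range) ≤
      2 ^ t * Nat.card ↥((Sb : Subgroup φ.range) ⊓ stabilizer φ.range α') := by
    rw [← hp, ← Nat.card_zpowers, ← Nat.card_prod]
    let f : Subgroup.zpowers p × ↥((Sb : Subgroup φ.range) ⊓ stabilizer φ.range α') → φ.range :=
      fun q => (q.1 : φ.range) * q.2
    have hsub : ((Sb : Subgroup φ.range) : Set φ.range) ⊆ Set.range f := by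
      intro x hx
      obtain ⟨i, w, -, hw, rfl⟩ := hSbform x hx
      exact ⟨(⟨p ^ i, i, rfl⟩, ⟨φ1 w, hw⟩), rfl⟩
    exact (Nat.card_mono (Set.toFinite _) hsub).trans (Finite.card_range_le f)
  haveI : IsPretransitive φ.range (Fix Ω b) := isPretransitive_of_is_two_pretransitive (h2 := h2')
  have hnd : ¬ 2 ^ (t + 1) ∣ Nat.card (Fix Ω b) := by
    intro hd
    obtain ⟨m, hm⟩ := IsPGroup.iff_card.1
      (Sb.isPGroup'.to_le (inf_le_left : _ ⊓ stabilizer φ.range α' ≤ _))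
    have h1 : 2 ^ m ∣ Nat.card (stabilizer φ.range α') := hm ▸ Subgroup.card_dvd_of_le inf_le_right
    have h3 : 2 ^ (t + 1 + m) ∣ Nat.card φ.range := by
      rw [pow_add, ← Subgroup.index_mul_card (stabilizer φ.range α'),
        index_stabilizer_of_transitive]
      exact mul_dvd_mul hd h1
    have h4 := Nat.le_of_dvd Nat.card_pos (Sb.pow_dvd_card_of_pow_dvd_card h3)
    rw [hm, ← pow_add] at hSbcard
    have := Nat.pow_le_pow_iff_right (by norm_num : 1 < 2) |>.1 (h4.trans hSbcard)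
    omega
  obtain ⟨hle2, hgood⟩ := hIH φ.range (Fix Ω b) hlt h2' hZ' Sb p hpS t ht hp hpsemi hnd
  -- basic facts in the image
  have hz' : φ1 (c1 ^ 2 ^ (t - 1)) = p ^ 2 ^ (t - 1) := map_pow φ1 c1 _
  set zb := p ^ 2 ^ (t - 1) with hzbdef
  have hzb : orderOf zb = 2 := orderOf_half (by omega) hp
  have hzb2 : zb ^ 2 = 1 := by
    have h := pow_orderOf_eq_one zb
    rwa [hzb] at h
  have hzbz : ∀ i : ℤ, Even i → zb ^ i = 1 := by
    rintro i ⟨k, rfl⟩
    rw [← two_mul, zpow_mul, zpow_ofNat, hzb2, one_zpow]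
  have hstab : ∀ x ∈ (Sb : Subgroup φ.range) ⊓ stabilizer φ.range α', x * x = 1 := by
    intro x hx
    have h1 := (card_mul_le (Ω := Fix Ω b) hp hpsemi hpS α').trans hle2
    rw [pow_succ] at h1
    have h2 : Nat.card ↥((Sb : Subgroup φ.range) ⊓ stabilizer φ.range α') ≤ 2 :=
      Nat.le_of_mul_le_mul_left h1 (by positivity)
    have h3 : (⟨x, hx⟩ : ↥((Sb : Subgroup φ.range) ⊓ stabilizer φ.range α')) ^ 2 = 1 := by
      rw [← orderOf_dvd_iff_pow_eq_one]
      have h4 := orderOf_dvd_natCard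
        (⟨x, hx⟩ : ↥((Sb : Subgroup φ.range) ⊓ stabilizer φ.range α'))
      rcases Nat.lt_or_ge (Nat.card ↥((Sb : Subgroup φ.range) ⊓ stabilizer φ.range α')) 2 with h | h
      · have hpos : 0 < Nat.card ↥((Sb : Subgroup φ.range) ⊓ stabilizer φ.range α') := Nat.card_pos
        rw [show Nat.card ↥((Sb : Subgroup φ.range) ⊓ stabilizer φ.range α') = 1 by omega] at h4
        exact h4.trans (one_dvd 2)
      · rwa [le_antisymm h2 h] at h4
    rw [pow_two] at h3
    exact congrArg Subtype.val h3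
  have hρgood : ∀ ρ ∈ (Sb : Subgroup φ.range) ⊓ stabilizer φ.range α', ρ ≠ 1 →
      orderOf ρ = 2 ∧ Good t p ρ := by
    intro ρ hρ hne
    have h := orderOf_eq_prime (by rw [pow_two]; exact hstab ρ hρ) hne
    exact ⟨h, hgood ρ hρ.1 h α' hρ.2⟩
  have hzbρ : ∀ ρ ∈ (Sb : Subgroup φ.range) ⊓ stabilizer φ.range α', ρ * zb * ρ⁻¹ = zb := by
    intro ρ hρ
    by_cases h1 : ρ = 1
    · rw [h1, one_mul, inv_one, mul_one]
    rw [hzbdef, ← conj_pow]
    rcases (hρgood ρ hρ h1).2 with h | ⟨-, h⟩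
    · rw [h, inv_pow, ← hzbdef, inv_eq_iff_mul_eq_one, ← pow_two]
      exact hzb2
    · rw [h, (show Commute p⁻¹ zb from ((Commute.refl p).inv_left.pow_right _)).mul_pow, inv_pow,
        ← hzbdef]
      have h2 : zb ^ 2 ^ (t - 1) = 1 := by
        rw [← zpow_natCast]
        refine hzbz _ ?_
        exact_mod_cast (Nat.even_pow.2 ⟨even_two, by omega⟩ : Even (2 ^ (t - 1)))
      rw [h2, mul_one, inv_eq_iff_mul_eq_one, ← pow_two]
      exact hzb2
  have hzbcen : ∀ x ∈ (Sb : Subgroup φ.range), x * zb * x⁻¹ = zb := by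
    intro x hx
    obtain ⟨i, w, -, hw, rfl⟩ := hSbform x hx
    calc p ^ i * φ1 w * zb * (p ^ i * φ1 w)⁻¹
        = p ^ i * (φ1 w * zb * (φ1 w)⁻¹) * (p ^ i)⁻¹ := by group
      _ = zb := by rw [hzbρ _ hw, hzbdef, ← zpow_natCast]; group
  -- the fused conjugate
  have hf4 : 4 ≤ Nat.card (Fix Ω b) := by
    refine le_trans ?_ (Nat.card_le_card_of_injective
      (fun q : Subgroup.zpowers p => (q : φ.range) • α') ?_)
    · rw [Nat.card_zpowers, hp]
      calc 4 = 2 ^ 2 := by norm_num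
        _ ≤ 2 ^ t := Nat.pow_le_pow_right (by norm_num) ht
    · rintro ⟨_, i, rfl⟩ ⟨_, k, rfl⟩ h
      apply Subtype.ext
      show p ^ i = p ^ k
      have h' : p ^ i • α' = p ^ k • α' := h
      have := hpsemi (-k + i) α' (by rw [zpow_add, zpow_neg, mul_smul, h', inv_smul_smul])
      rw [zpow_add, zpow_neg, inv_mul_eq_one] at this
      exact this.symm
  have heven : Even (Nat.card (Fix Ω b)) := by
    by_contra ho
    obtain ⟨γ, hγ⟩ := Sb.isPGroup'.nonempty_fixed_point_of_prime_not_dvd_card (Fix Ω b)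
      (fun h => ho (even_iff_two_dvd.2 h))
    have h1 := hpsemi 1 γ (by rw [zpow_one]; exact mem_fixedPoints.1 hγ ⟨p, hpS⟩)
    rw [zpow_one] at h1
    rw [h1, orderOf_one] at hp
    have := Nat.pow_le_pow_right (by norm_num : 1 ≤ 2) ht
    omega
  have hO : Cfsg.oddCore φ.range = ⊥ :=
    CfsgLib.Cores.oddCore_eq_bot_iff.2 fun N hN ho => by
      haveI := hN
      exact oddNormal_eq_bot h2' heven N ho
  obtain ⟨gb, hgbS, hgbne⟩ : ∃ gb : φ.range, gb * zb * gb⁻¹ ∈ (Sb : Subgroup φ.range) ∧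
      gb * zb * gb⁻¹ ≠ zb := by
    by_contra hno
    push_neg at hno
    have h := CfsgLib.Involutions.mem_center_of_isolated Sb hzb hno hO
    rw [center_eq_bot h2' (by omega), Subgroup.mem_bot] at h
    rw [h, orderOf_one] at hzb
    omega
  obtain ⟨g1, hg1⟩ := hsurj gb
  set zc : C1 := c1 ^ 2 ^ (t - 1) with hzc
  have hv0 : orderOf (g1 * zc * g1⁻¹) = 2 := by
    rw [← Subgroup.orderOf_coe]
    simp only [Subgroup.coe_mul, InvMemClass.coe_inv, hzc, Subgroup.coe_pow]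
    rw [show (g1 : G) * (c1 : G) ^ 2 ^ (t - 1) * (g1 : G)⁻¹ = MulAut.conj (g1 : G) z from rfl,
      MulEquiv.orderOf_eq, hz]
  have hv0im : φ1 (g1 * zc * g1⁻¹) = gb * zb * gb⁻¹ := by
    rw [map_mul, map_mul, map_inv, hg1, hz']
  set M0 := (Sb : Subgroup φ.range).comap φ1 with hM0
  have hTM : (T : Subgroup C1) ≤ M0 := fun x hx => hSb x (show (x : G) ∈ S from by
    have : x ∈ S.subgroupOf C1 := hT ▸ hx
    exact this)
  let v00 : M0 := ⟨g1 * zc * g1⁻¹, show φ1 (g1 * zc * g1⁻¹) ∈ _ by rw [hv0im]; exact hgbS⟩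
  obtain ⟨Q, hQ⟩ := (IsPGroup.of_card (n := 1) (by
      rw [Nat.card_zpowers, ← Subgroup.orderOf_coe v00, pow_one]; exact hv0) :
      IsPGroup 2 (Subgroup.zpowers v00)).exists_le_sylow
  obtain ⟨m, hm⟩ := MulAction.exists_smul_eq M0 Q (T.subtype hTM)
  have hmT : (m : C1) * (g1 * zc * g1⁻¹) * (m : C1)⁻¹ ∈ (T : Subgroup C1) := by
    have : m * v00 * m⁻¹ ∈ (T.subtype hTM : Subgroup M0) := by
      rw [← hm]
      exact ⟨v00, hQ (Subgroup.mem_zpowers v00), rfl⟩
    exact this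
  set gg : C1 := (m : C1) * g1 with hgg
  have hveq : gg * zc * gg⁻¹ = (m : C1) * (g1 * zc * g1⁻¹) * (m : C1)⁻¹ := by
    rw [hgg]; group
  rw [← hveq] at hmT
  set v : C1 := gg * zc * gg⁻¹ with hvdef
  have hvS : (v : G) ∈ S := by
    have : v ∈ S.subgroupOf C1 := hT ▸ hmT
    exact this
  have hvim : φ1 v = φ1 m * (gb * zb * gb⁻¹) * (φ1 m)⁻¹ := by
    rw [hveq, map_mul, map_mul, map_inv, hv0im]
  have hvne : φ1 v ≠ zb := by
    intro h
    rw [hvim] at h
    apply hgbne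
    calc gb * zb * gb⁻¹ = (φ1 m)⁻¹ * (φ1 m * (gb * zb * gb⁻¹) * (φ1 m)⁻¹) * φ1 m := by group
      _ = (φ1 m)⁻¹ * zb * (φ1 m)⁻¹⁻¹ := by rw [h, inv_inv]
      _ = zb := hzbcen _ (inv_mem m.2)
  have hvim2 : orderOf (φ1 v) = 2 := by
    rw [hvdef, map_mul, map_mul, map_inv,
      show φ1 gg * φ1 zc * (φ1 gg)⁻¹ = MulAut.conj (φ1 gg) (φ1 zc) from rfl, MulEquiv.orderOf_eq,
      hz', hzb]
  have hvord : orderOf (v : G) = 2 := by
    rw [hvdef]
    simp only [Subgroup.coe_mul, InvMemClass.coe_inv, hzc, Subgroup.coe_pow]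
    rw [show (gg : G) * (c1 : G) ^ 2 ^ (t - 1) * (gg : G)⁻¹ = MulAut.conj (gg : G) z from rfl,
      MulEquiv.orderOf_eq, hz]
  have hvcoe : (v : G) = gg * z * (gg : G)⁻¹ := rfl
  obtain ⟨j, w, hw, hvw⟩ := hS v hvS.1 ((hmemC _).1 hvS.2)
  have hwS : w ∈ S := ⟨hw.1, hwC w hw⟩
  set w1 : C1 := ⟨w, hSC1 hwS⟩ with hw1
  set ρ := φ1 w1 with hρdef
  have hρmem : ρ ∈ (Sb : Subgroup φ.range) ⊓ stabilizer φ.range α' :=
    ⟨hSb w1 hwS, Subtype.ext (mem_stabilizer_iff.1 hw.2)⟩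
  have hvp : φ1 v = p ^ j * ρ := by
    rw [hpi, hρdef, ← map_mul]
    exact congrArg φ1 (Subtype.ext (hvw.trans (by simp [hw1, c1])))
  have hvp2 : (p ^ j * ρ) * (p ^ j * ρ) = 1 := by
    rw [← hvp, ← pow_two]
    exact hvim2 ▸ pow_orderOf_eq_one _
  have hρ1 : ρ ≠ 1 := by
    intro h
    rw [h, mul_one] at hvp hvp2
    rcases zpow_eq_one_or_half (by omega) hp (i := j) (by rw [pow_two]; exact hvp2) with h' | h'
    · rw [hvp, h', orderOf_one] at hvim2
      omega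
    · exact hvne (hvp.trans h')
  obtain ⟨hρord, hρG⟩ := hρgood ρ hρmem hρ1
  have hρρ : ρ * ρ = 1 := hstab ρ hρmem
  -- `v` fixes no point
  have hvfpf : ∀ γ : Fix Ω b, φ1 v • γ ≠ γ := by
    intro γ h
    have h1 := congrArg Subtype.val h
    rw [happly, hvcoe, mul_smul, mul_smul] at h1
    exact hzsemi ((gg : G)⁻¹ • γ.1) (by
      calc z • (gg : G)⁻¹ • γ.1 = (gg : G)⁻¹ • (gg : G) • z • (gg : G)⁻¹ • γ.1 :=
            (inv_smul_smul _ _).symm
        _ = (gg : G)⁻¹ • γ.1 := by rw [h1])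
  have hfixconj : ∀ k : ℤ, φ1 v ≠ p ^ k * ρ * p ^ (-k) := by
    intro k h
    apply hvfpf (p ^ k • α')
    rw [h, ← mul_smul, mul_assoc _ (p ^ (-k)), ← zpow_add, neg_add_cancel, zpow_zero, mul_one,
      mul_smul, mem_stabilizer_iff.1 hρmem.2]
  have hconjk : ∀ k : ℤ, ρ * p ^ k = (ρ * p * ρ⁻¹) ^ k * ρ := fun k => by
    rw [conj_zpow, inv_mul_cancel_right]
  have hinv : ρ * p * ρ⁻¹ = p⁻¹ := by
    rcases hρG with h | ⟨ht3, h⟩
    · exact h
    exfalso
    have hcz : Commute p⁻¹ zb := (Commute.refl p).inv_left.pow_right _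
    rcases Int.even_or_odd j with ⟨k, hk⟩ | hj
    · have key : ∀ l : ℤ, p ^ l * ρ * p ^ (-l) = p ^ (l + l) * zb ^ l * ρ := fun l => by
        have hzl : zb ^ (-l) = zb ^ l := by
          rw [← mul_inv_eq_one, ← zpow_neg, ← zpow_add]
          exact hzbz _ ⟨-l, rfl⟩
        rw [mul_assoc, hconjk, h, hcz.mul_zpow, inv_zpow', neg_neg, hzl]
        group
      rcases Int.even_or_odd k with hk2 | hk2
      · apply hfixconj k
        rw [key, hzbz k hk2, mul_one, hvp, hk]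
      · apply hfixconj (k + ((2 ^ (t - 2) : ℕ) : ℤ))
        have he : Even ((2 ^ (t - 2) : ℕ) : ℤ) := by
          exact_mod_cast (Nat.even_pow.2 ⟨even_two, by omega⟩ : Even (2 ^ (t - 2)))
        obtain ⟨r, hr⟩ := hk2.add_even he
        rw [key, hr, zpow_add_one zb, hzbz _ ⟨r, two_mul r⟩, one_mul, hvp, hk, ← hr]
        congr 1
        have h2 : zb = p ^ (((2 ^ (t - 2) : ℕ) : ℤ) + ((2 ^ (t - 2) : ℕ) : ℤ)) := by
          rw [← Nat.cast_add, zpow_natCast, hzbdef]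
          congr 1
          rw [← two_mul, ← pow_succ']
          congr 1
          omega
        rw [add_add_add_comm, zpow_add _ (k + k), ← h2, mul_assoc, ← pow_two, hzb2, mul_one]
    · have h1 : (p ^ j * ρ) * (p ^ j * ρ) = zb ^ j := by
        calc p ^ j * ρ * (p ^ j * ρ) = p ^ j * (ρ * p ^ j) * ρ := by group
          _ = p ^ j * (p⁻¹ * zb) ^ j * (ρ * ρ) := by rw [hconjk, h, ← hzbdef]; simp only [mul_assoc]
          _ = zb ^ j := by rw [hcz.mul_zpow, hρρ, mul_one, inv_zpow, mul_inv_cancel_left]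
      rw [hvp2] at h1
      obtain ⟨r, rfl⟩ := hj
      rw [zpow_add_one, hzbz _ ⟨r, two_mul r⟩, one_mul] at h1
      rw [← h1, orderOf_one] at hzb
      omega
  have hjodd : Odd j := by
    rcases Int.even_or_odd j with ⟨k, hk⟩ | hj
    · exfalso
      apply hfixconj k
      have h := dihedral_conj hinv k 0
      rw [zpow_zero, one_mul] at h
      rw [h, hvp, hk]
      congr 2
      ring
    · exact hj
  -- `c` centralises the kernel
  have hck : ∀ k ∈ P ⊓ stabilizer G α, InKer Ω b k → c * k = k * c := by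
    intro k hk hkk
    have hkL : k ∈ L := (hmemL k).2 ⟨⟨hk.1, hwC k hk⟩, hkk⟩
    have hz_n : z ∈ Subgroup.normalizer (L : Set G) := pow_mem (hSn hcS) _
    have h1 : (v : G) * k * (v : G)⁻¹ = z * k * z⁻¹ := by
      rw [hvcoe]
      exact conj_conj_eq_of_isCyclic gg.2.2 hz_n hkL
    have hwk : w * k = k * w := commute_of_isCyclic hw hk
    rw [hvw] at h1
    have h2 : c ^ j * k * (c ^ j)⁻¹ = z * k * z⁻¹ := by
      rw [← h1]
      calc c ^ j * k * (c ^ j)⁻¹ = c ^ j * (w * k * w⁻¹) * (c ^ j)⁻¹ := by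
            rw [hwk, mul_inv_cancel_right]
        _ = c ^ j * w * k * (c ^ j * w)⁻¹ := by group
    have h3 : Commute (c ^ (-((2 ^ (t - 1) : ℕ) : ℤ) + j)) k := by
      rw [Commute, SemiconjBy, ← mul_inv_eq_iff_eq_mul]
      calc c ^ (-((2 ^ (t - 1) : ℕ) : ℤ) + j) * k * (c ^ (-((2 ^ (t - 1) : ℕ) : ℤ) + j))⁻¹
          = z⁻¹ * (c ^ j * k * (c ^ j)⁻¹) * z := by rw [hzdef, ← zpow_natCast c]; group
        _ = k := by rw [h2]; group
    have hodd : Odd (-((2 ^ (t - 1) : ℕ) : ℤ) + j) := by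
      apply Even.add_odd _ hjodd
      rw [even_neg]
      exact_mod_cast (Nat.even_pow.2 ⟨even_two, by omega⟩ : Even (2 ^ (t - 1)))
    have hcop : IsCoprime (-((2 ^ (t - 1) : ℕ) : ℤ) + j) ((2 : ℤ) ^ t) := by
      apply IsCoprime.pow_right
      obtain ⟨r, hr⟩ := hodd
      rw [hr]
      exact ⟨1, -r, by ring⟩
    obtain ⟨x, y, hxy⟩ := hcop
    have h4 : c = (c ^ (-((2 ^ (t - 1) : ℕ) : ℤ) + j)) ^ x := by
      conv_lhs => rw [← zpow_one c, ← hxy]
      rw [zpow_add, mul_comm x, zpow_mul, mul_comm y, zpow_mul,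
        show c ^ ((2 : ℤ) ^ t) = 1 from by
          rw [show ((2 : ℤ) ^ t) = ((2 ^ t : ℕ) : ℤ) by push_cast; rfl, zpow_natCast, ← hc,
            pow_orderOf_eq_one], one_zpow, mul_one]
    rw [h4]
    exact (h3.zpow_left x).eq
  have hconjInKer : InKer Ω b (w * c * w⁻¹ * c) := by
    have h : φ1 (w1 * c1 * w1⁻¹ * c1) = 1 := by
      rw [map_mul, map_mul, map_mul, map_inv, ← hρdef, ← hpdef, hinv, inv_mul_cancel]
    exact (hker _).1 h
  have hsqInKer : InKer Ω b (w * w) := by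
    have h : φ1 (w1 * w1) = 1 := by rw [map_mul, ← hρdef, hρρ]
    exact (hker _).1 h
  refine ⟨v, gg, w, j, hvS.1, (hmemC _).1 hvS.2, (hmemC _).1 gg.2.1, hvcoe, hvord, hjodd, hw,
    fun h => hρ1 ((hker w1).2 h), hvw, hck, hconjInKer, hsqInKer, ?_⟩
  intro x hx hxb
  obtain ⟨i, w', hw', rfl⟩ := hS x hx hxb
  have hw'S : w' ∈ S := ⟨hw'.1, hwC w' hw'⟩
  set w2 : C1 := ⟨w', hSC1 hw'S⟩ with hw2
  have hσmem : φ1 w2 ∈ (Sb : Subgroup φ.range) ⊓ stabilizer φ.range α' :=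
    ⟨hSb w2 hw'S, Subtype.ext (mem_stabilizer_iff.1 hw'.2)⟩
  refine ⟨i, ?_⟩
  by_cases h1 : φ1 w2 = 1
  · left
    rw [inv_mul_cancel_left]
    exact (hker w2).1 h1
  · right
    haveI := hZ'.isCyclic Sb.isPGroup' α'
    have heq : ρ = φ1 w2 := hZ'.eq_of_commute α' hρmem.2 hσmem.2 hρord
      (hρgood _ hσmem h1).1 (commute_of_isCyclic hρmem hσmem)
    have h : φ1 (w1⁻¹ * w2) = 1 := by rw [map_mul, map_inv, ← hρdef, heq, inv_mul_cancel]
    have h' := (hker _).1 h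
    rw [mul_inv_rev, mul_assoc, inv_mul_cancel_left]
    exact h'

end CfsgLib.ZFact
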