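import Cfsg.Agent.Lib.ZFact.Primitive
import Cfsg.Agent.S0307

/-!
# Factorisations of a cyclic group and a Z-group

A finite group `G = AB` with `A` cyclic, `B` a Z-group, without solvable normal subgroups other than
`⊥`, is trivial or `PGL₂(p)`.
-/

set_option autoImplicit false
set_option linter.style.haveILetI false
open Cfsg Matrix

namespace CfsgLib.ZFact

open CfsgLib.ReflectionsSpinor.PSL CfsgLib.GW CfsgLib.GW.PGLTwo

universe u

variable {G : Type u} [Group G] [Finite G]

/-- A factorisation maps to quotients without solvable normal subgroups. -/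
theorem Factor.of_surjective {H : Type u} [Group H] [Finite H] {A B : Subgroup G} (h : Factor G A B)
    (f : G →* H) (hf : Function.Surjective f) (hns : ¬ Group.IsSolvable H)
    (hrad : ∀ N : Subgroup H, N.Normal → Group.IsSolvable N → N = ⊥) :
    Factor H (A.map f) (B.map f) where
  cyc := haveI := h.cyc; isCyclic_of_surjective _ (f.subgroupMap_surjective A)
  zg := haveI := h.zg; IsZGroup.of_surjective (f.subgroupMap_surjective B)
  mul g := by
    obtain ⟨g, rfl⟩ := hf g
    obtain ⟨a, ha, b, hb, rfl⟩ := h.mul g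
    exact ⟨f a, ⟨a, ha, rfl⟩, f b, ⟨b, hb, rfl⟩, map_mul _ _ _⟩
  nsol := hns
  rad := hrad

/-- Having no solvable normal subgroups is invariant under isomorphism. -/
theorem rad_of_equiv {H : Type u} [Group H] [Finite H] (e : G ≃* H)
    (hrad : ∀ N : Subgroup G, N.Normal → Group.IsSolvable N → N = ⊥) (N : Subgroup H)
    (hN : N.Normal) (hs : Group.IsSolvable N) : N = ⊥ := by
  haveI := hs
  have h := hrad (N.map e.symm.toMonoidHom) (hN.map _ e.symm.surjective)
    (Group.isSolvable_of_surjective
      (f := (N.equivMapOfInjective e.symm.toMonoidHom e.symm.injective).toMonoidHom)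
      (N.equivMapOfInjective e.symm.toMonoidHom e.symm.injective).surjective)
  rwa [Subgroup.map_eq_bot_iff_of_injective _ e.symm.injective] at h

/-- If `B` lies in a maximal subgroup with non-trivial core, the core has a normal complement. -/
theorem exists_normal_complement {K : Subgroup G} [hK : K.Normal]
    (hrad : ∀ N : Subgroup G, N.Normal → Group.IsSolvable N → N = ⊥) (hpgl : IsPGL K) :
    ∃ L : Subgroup G, L.Normal ∧ Disjoint K L ∧ K ⊔ L = ⊤ := by
  classical
  obtain ⟨F, iF, iT, hp, h3, ⟨eK⟩⟩ := hpgl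
  letI := iF
  letI := iT
  haveI := CfsgLib.PSLKleinAut.isSimpleGroup_psl2 (F := F) h3
  have hperf := CfsgLib.PSLKleinAut.commutator_psl2 (F := F) h3
  -- the image of `PSL₂` in `PGL₂` is the commutator subgroup
  let i : ProjectiveSpecialLinearGroup (Fin 2) F →* (GL (Fin 2) F ⧸ Subgroup.center (GL (Fin 2) F)) :=
    Matrix.ProjectiveSpecialLinearGroup.toPGL
  have hi : Function.Injective i := Matrix.ProjectiveSpecialLinearGroup.toPGL_injective
  obtain ⟨g, -, hg⟩ := Cfsg.Agent.S0307.result (F := F) rfl 2 (by norm_num)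
  have hrange : commutator (GL (Fin 2) F ⧸ Subgroup.center (GL (Fin 2) F)) = i.range := by
    refine le_antisymm ((Abelianization.commutator_subset_ker g).trans hg.le) ?_
    rw [MonoidHom.range_eq_map, ← hperf]
    exact Subgroup.map_le_iff_le_comap.2 ((Subgroup.commutator_le).2 fun x _ y _ => by
      rw [Subgroup.mem_comap, map_commutatorElement]
      exact Subgroup.commutator_mem_commutator (Subgroup.mem_top _) (Subgroup.mem_top _))
  have hcomm : (commutator K).map eK.toMonoidHom = i.range := by
    rw [← hrange, commutator_def, Subgroup.map_commutator,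
      Subgroup.map_top_of_surjective _ eK.surjective]
    rfl
  let T : Subgroup G := (commutator K).map K.subtype
  haveI : T.Normal := inferInstance
  have hTK : T ≤ K := by
    rintro _ ⟨t, -, rfl⟩
    exact t.2
  let e : T ≃* ProjectiveSpecialLinearGroup (Fin 2) F :=
    ((commutator K).equivMapOfInjective K.subtype K.subtype_injective).symm.trans
      (((commutator K).equivMapOfInjective eK.toMonoidHom eK.injective).trans
        ((MulEquiv.subgroupCongr hcomm).trans (MonoidHom.ofInjective hi).symm))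
  haveI : IsSimpleGroup T := e.isSimpleGroup_congr.2 inferInstance
  have hTc : Subgroup.center T = ⊥ := by
    refine (IsSimpleGroup.eq_bot_or_eq_top_of_normal (Subgroup.center T) inferInstance).resolve_right
      fun htop => ?_
    have h1 : commutator T = ⊥ := by
      rw [commutator_def, Subgroup.commutator_eq_bot_iff_le_centralizer]
      intro x _
      rw [Subgroup.mem_centralizer_iff]
      intro y _
      exact Subgroup.mem_center_iff.1 (show x ∈ Subgroup.center T from htop ▸ Subgroup.mem_top x) y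
    have h2 : (commutator T).map e.toMonoidHom = ⊤ := by
      rw [commutator_def, Subgroup.map_commutator, Subgroup.map_top_of_surjective _ e.surjective]
      exact hperf
    rw [h1, Subgroup.map_bot] at h2
    exact bot_ne_top h2
  set L := Subgroup.centralizer (T : Set G) with hL
  have hLK : Disjoint K L := by
    rw [disjoint_iff]
    set D := K ⊓ L with hD
    haveI : D.Normal := inferInstance
    have hDT : T ⊓ L = ⊥ := by
      rw [Subgroup.eq_bot_iff_forall]
      rintro x ⟨hxT, hxL⟩
      have h1 : (⟨x, hxT⟩ : T) ∈ Subgroup.center T := Subgroup.mem_center_iff.2 fun y =>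
        Subtype.ext (Subgroup.mem_centralizer_iff.1 hxL y y.2)
      rw [hTc, Subgroup.mem_bot] at h1
      exact congrArg Subtype.val h1
    refine hrad D inferInstance (Group.isSolvable_of_comm fun x y => ?_)
    have h1 : ((x * y * x⁻¹ * y⁻¹ : D) : G) ∈ T ⊓ L := by
      refine ⟨?_, (x * y * x⁻¹ * y⁻¹).2.2⟩
      exact ⟨(⟨x, x.2.1⟩ : K) * ⟨y, y.2.1⟩ * (⟨x, x.2.1⟩ : K)⁻¹ * (⟨y, y.2.1⟩ : K)⁻¹,
        Subgroup.commutator_mem_commutator (Subgroup.mem_top _) (Subgroup.mem_top _), rfl⟩
    rw [hDT, Subgroup.mem_bot] at h1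
    exact commutatorElement_eq_one_iff_mul_comm.1 (Subtype.ext h1)
  refine ⟨L, inferInstance, hLK, ?_⟩
  -- `G` acts on `T` by inner-diagonal automorphisms, all realised in `K`
  let f₀ : G →* MulAut T := MulAut.conjNormal
  let f : G →* MulAut (ProjectiveSpecialLinearGroup (Fin 2) F) :=
    (MulAut.congr e).toMonoidHom.comp f₀
  have hker : ∀ x, f x = 1 → x ∈ L := by
    intro x hx
    have hx' : f₀ x = 1 := (MulAut.congr e).injective (hx.trans (map_one _).symm)
    rw [hL, Subgroup.mem_centralizer_iff]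
    intro t ht
    have h := congrArg Subtype.val (DFunLike.congr_fun hx' ⟨t, ht⟩)
    rw [MulAut.conjNormal_apply] at h
    exact (mul_inv_eq_iff_eq_mul.1 h).symm
  have hfr : f.range ≤ (toAutHom (n := 2) (F := F)).range := by
    rintro _ ⟨x, rfl⟩
    obtain ⟨y, σ, hy | ⟨h, -⟩⟩ := exists_semiAut (le_refl 2) (f x)
    swap
    · omega
    rw [ringAut_eq_one_of_prime hp σ] at hy
    exact ⟨y, hy.symm⟩
  have hfK : (f.comp K.subtype).range = (toAutHom (n := 2) (F := F)).range := by
    refine Subgroup.eq_of_le_of_card_ge ?_ ?_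
    · rintro _ ⟨x, rfl⟩
      exact hfr ⟨(x : G), rfl⟩
    · have hinj : Function.Injective (f.comp K.subtype) := by
        rw [injective_iff_map_eq_one]
        intro x hx
        exact Subtype.ext (Subgroup.disjoint_def.1 hLK x.2 (hker _ hx))
      refine le_of_eq ?_
      rw [← Nat.card_congr (MonoidHom.ofInjective hinj).toEquiv, Nat.card_congr eK.toEquiv]
      exact (Nat.card_congr ((QuotientGroup.quotientMulEquivOfEq
        (toAutHom_ker (le_refl 2)).symm).trans (QuotientGroup.quotientKerEquivRange _)).toEquiv).symm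
  rw [eq_top_iff]
  intro x _
  obtain ⟨k, hk⟩ : f x ∈ (f.comp K.subtype).range := hfK ▸ hfr ⟨x, rfl⟩
  have h1 : (k : G)⁻¹ * x ∈ L := hker _ (by
    rw [map_mul, map_inv, show f (k : G) = f x from hk, inv_mul_cancel])
  rw [show x = (k : G) * ((k : G)⁻¹ * x) by group]
  exact Subgroup.mul_mem_sup k.2 h1

/-- `G = AB` without solvable normal subgroups is `PGL₂(p)`. -/
theorem factor_pgl (hGW : GWApps.DihedralPerfect.{u}) : ∀ (m : ℕ) (G : Type u) [Group G] [Finite G]
    (A B : Subgroup G), Nat.card G = m → Factor G A B → IsPGL G ∧ TwoShape G := by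
  intro m
  induction m using Nat.strong_induction_on with
  | _ m ih =>
  intro G _ _ A B hm h
  have hBtop : B ≠ ⊤ := by
    rintro rfl
    haveI := h.zg
    exact h.nsol (Group.isSolvable_of_surjective (f := (Subgroup.topEquiv (G := G)).toMonoidHom)
      Subgroup.topEquiv.surjective)
  obtain ⟨M, hM, hBM⟩ := (eq_top_or_exists_le_coatom B).resolve_left hBtop
  by_cases hMB : M = B
  · exact primitive_case hGW h (hMB ▸ hM)
  exfalso
  set K := M.normalCore with hKdef
  have hAK : ∀ x ∈ A, x ∈ M → x ∈ K := by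
    intro x hxA hxM k
    obtain ⟨a, ha, b, hb, hab⟩ := h.mul k⁻¹
    have hk : k = b⁻¹ * a⁻¹ := by rw [← _root_.mul_inv_rev, ← hab, inv_inv]
    haveI := h.cyc
    rw [hk, show b⁻¹ * a⁻¹ * x * (b⁻¹ * a⁻¹)⁻¹ = b⁻¹ * (a⁻¹ * (x * a)) * b by group,
      commute_of_isCyclic hxA ha, inv_mul_cancel_left]
    exact mul_mem (mul_mem (inv_mem (hBM hb)) hxM) (hBM hb)
  have hKne : K ≠ ⊥ := by
    intro hK
    apply hMB
    refine le_antisymm (fun x hx => ?_) hBM
    obtain ⟨a, ha, b, hb, rfl⟩ := h.mul x
    have h1 : a ∈ K := hAK a ha (by simpa [mul_assoc] using mul_mem hx (inv_mem (hBM hb)))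
    rw [hK, Subgroup.mem_bot] at h1
    rwa [h1, one_mul]
  have hKtop : K ≠ ⊤ := fun hK => hM.1 (top_le_iff.1 (hK ▸ M.normalCore_le))
  have hKns : ¬ Group.IsSolvable K := fun hs => hKne (h.rad K inferInstance hs)
  have hKfac : Factor K (A.subgroupOf K) (B.subgroupOf K) := by
    haveI := h.cyc
    haveI := h.zg
    refine ⟨?_, ?_, fun x => ?_, hKns, rad_of_normal h.rad K⟩
    · exact isCyclic_of_injective
        (f := ((K.subtype).comp (A.subgroupOf K).subtype).codRestrict A fun y => y.2)
        fun y z hyz => Subtype.ext (Subtype.ext (congrArg (fun w : A => (w : G)) hyz))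
    · exact IsZGroup.of_injective
        (f := ((K.subtype).comp (B.subgroupOf K).subtype).codRestrict B fun y => y.2)
        fun y z hyz => Subtype.ext (Subtype.ext (congrArg (fun w : B => (w : G)) hyz))
    · obtain ⟨a, ha, b, hb, hab⟩ := h.mul (x : G)
      have haK : a ∈ K := hAK a ha (by
        have h1 := mul_mem (M.normalCore_le x.2) (inv_mem (hBM hb))
        rwa [hab, mul_inv_cancel_right] at h1)
      have hbK : b ∈ K := by
        have h1 := mul_mem (inv_mem haK) x.2
        rwa [hab, inv_mul_cancel_left] at h1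
      exact ⟨⟨a, haK⟩, ha, ⟨b, hbK⟩, hb, Subtype.ext hab⟩
  have hlt : Nat.card K < m := by
    rw [← hm]
    exact lt_of_le_of_ne (Subgroup.card_le_card_group _)
      fun hc => hKtop (Subgroup.eq_top_of_card_eq _ hc)
  obtain ⟨hKpgl, hKsh⟩ := ih _ hlt K _ _ rfl hKfac
  obtain ⟨L, hLn, hd, hsup⟩ := exists_normal_complement h.rad hKpgl
  haveI := hLn
  have hco : Subgroup.IsComplement' K L :=
    Subgroup.isComplement'_of_disjoint_and_mul_eq_univ hd (by rw [← Subgroup.normal_mul, hsup]; rfl)
  let q : L →* G ⧸ K := (QuotientGroup.mk' K).comp L.subtype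
  have hq : Function.Bijective q := by
    refine ⟨(injective_iff_map_eq_one q).2 fun x hx => ?_, fun y => ?_⟩
    · exact Subtype.ext (Subgroup.disjoint_def.1 hd ((QuotientGroup.eq_one_iff _).1 hx) x.2)
    · obtain ⟨g, rfl⟩ := QuotientGroup.mk_surjective y
      obtain ⟨k, hk, l, hl, rfl⟩ := Subgroup.mem_sup_of_normal_right.1
        (show g ∈ K ⊔ L from hsup ▸ Subgroup.mem_top g)
      refine ⟨⟨l, hl⟩, ?_⟩
      show ((l : G) : G ⧸ K) = ((k * l : G) : G ⧸ K)
      rw [QuotientGroup.mk_mul, (QuotientGroup.eq_one_iff k).2 hk, one_mul]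
  let eL : L ≃* G ⧸ K := MulEquiv.ofBijective q hq
  have hLne : L ≠ ⊥ := fun hL => hKtop (by rwa [hL, sup_bot_eq] at hsup)
  have hQns : ¬ Group.IsSolvable (G ⧸ K) := fun hs => hLne (h.rad L hLn (by
    haveI := hs
    exact Group.isSolvable_of_surjective (f := eL.symm.toMonoidHom) eL.symm.surjective))
  have hQfac := h.of_surjective (QuotientGroup.mk' K) (QuotientGroup.mk'_surjective K) hQns
    (rad_of_equiv eL (rad_of_normal h.rad L))
  have hQlt : Nat.card (G ⧸ K) < m := by
    rw [← hm, ← Subgroup.card_mul_index K, Subgroup.index_eq_card]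
    exact lt_mul_of_one_lt_left Nat.card_pos ((Subgroup.one_lt_card_iff_ne_bot K).2 hKne)
  obtain ⟨-, hLsh⟩ := ih _ hQlt (G ⧸ K) _ _ rfl hQfac
  exact no_two_factors h K L hd hsup hKsh (hLsh.of_equiv eL.symm)

end CfsgLib.ZFact
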