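import Cfsg.Agent.Lib.ZFact.Shape
import Cfsg.Agent.Lib.ZFact.Socle
import Cfsg.Agent.Lib.ZFact.Recognition
import Cfsg.Agent.Lib.GWApps.GenDihedralMain
import Cfsg.Agent.S3559
import Cfsg.Agent.S0700

/-!
# Factorisations `G = AB` with `B` maximal

`G` is then 2-transitive on the cosets of `B` and is `PGL₂(p)`, modulo the Gorenstein-Walter theorem.
-/

set_option autoImplicit false
set_option linter.style.haveILetI false
open Cfsg

namespace CfsgLib.ZFact

open MulAction

universe u

/-- `G` is `PGL₂(p)` for a prime `p > 3`. -/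
def IsPGL (G : Type u) [Group G] : Prop :=
  ∃ (F : Type) (_ : Field F) (_ : Fintype F), (Fintype.card F).Prime ∧ 3 < Fintype.card F ∧
    Nonempty (G ≃* (GL (Fin 2) F ⧸ Subgroup.center (GL (Fin 2) F)))

variable {G : Type u} [Group G] [Finite G]

theorem two_le_factorization_of_not_isSolvable (h : ¬ Group.IsSolvable G) :
    2 ≤ (Nat.card G).factorization 2 := by
  haveI : Fact (Nat.Prime 2) := ⟨Nat.prime_two⟩
  by_contra hlt
  obtain ⟨P⟩ : Nonempty (Sylow 2 G) := inferInstance
  refine h (GWApps.GenDihedral.isSolvable_of_cyclic_sylow P ?_)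
  rcases Nat.lt_or_ge ((Nat.card G).factorization 2) 1 with h1 | h1
  · haveI : Subsingleton (P : Subgroup G) := (Nat.card_eq_one_iff_unique.1
      (by rw [P.card_eq_multiplicity, show (Nat.card G).factorization 2 = 0 by omega, pow_zero])).1
    exact isCyclic_of_subsingleton
  · exact isCyclic_of_prime_card (p := 2) (by
      rw [P.card_eq_multiplicity, show (Nat.card G).factorization 2 = 1 by omega, pow_one])

variable {Ω : Type u} [MulAction G Ω] [Finite Ω]

/-- A non-abelian minimal normal subgroup of a 2-transitive group is simple. -/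
theorem isSimple_of_minimal [FaithfulSMul G Ω] (h2 : IsMultiplyPretransitive G Ω 2)
    (T : Subgroup G) [hT : T.Normal] (hne : T ≠ ⊥)
    (hmin : ∀ N : Subgroup G, N.Normal → N ≤ T → N = ⊥ ∨ N = T) (hns : ¬ IsMulCommutative T) :
    IsSimpleGroup T := by
  classical
  haveI : Fintype Ω := Fintype.ofFinite Ω
  have hinj : Function.Injective (toPermHom G Ω) := toPerm_injective
  let G' : Subgroup (Equiv.Perm Ω) := (toPermHom G Ω).range
  let f : G →* G' := (toPermHom G Ω).rangeRestrict
  have hfs : Function.Surjective f := (toPermHom G Ω).rangeRestrict_surjective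
  have hfi : Function.Injective f := fun x y h => hinj (congrArg Subtype.val h)
  have h2' : IsMultiplyPretransitive G' Ω 2 := by
    rw [is_two_pretransitive_iff] at h2 ⊢
    intro a b c d hab hcd
    obtain ⟨g, h1, h3⟩ := h2 hab hcd
    exact ⟨f g, h1, h3⟩
  haveI : (T.map f).Normal := hT.map f hfs
  rcases Cfsg.Agent.S0700.result G' h2' (T.map f)
    (by rwa [Ne, Subgroup.map_eq_bot_iff_of_injective _ hfi])
    (fun M hM hle => by
      rcases hmin (M.comap f) (hM.comap f)
        ((Subgroup.comap_mono hle).trans (Subgroup.comap_map_eq_self_of_injective hfi T).le)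
        with h | h
      · left
        rw [← Subgroup.map_comap_eq_self_of_surjective hfs M, h, Subgroup.map_bot]
      · right
        rw [← Subgroup.map_comap_eq_self_of_surjective hfs M, h])
    with ⟨hc, -, -⟩ | ⟨hs, -⟩
  · exfalso
    haveI := hc
    refine hns ⟨⟨fun x y => (T.equivMapOfInjective f hfi).injective ?_⟩⟩
    rw [map_mul, map_mul]
    exact IsMulCommutative.is_comm.comm _ _
  · exact (T.equivMapOfInjective f hfi).isSimpleGroup_congr.2 hs

/-- The centraliser of a simple normal subgroup is trivial if the Sylow 2-subgroups are small. -/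
theorem centralizer_eq_bot [FaithfulSMul G Ω] (hprim : IsPreprimitive G Ω)
    (T : Subgroup G) [T.Normal] (hne : T ≠ ⊥) (hTns : ¬ Group.IsSolvable T)
    (hTC : Disjoint T (Subgroup.centralizer (T : Set G))) (α : Ω) {s : ℕ}
    (hs : (Nat.card Ω).factorization 2 = s)
    (hsmall : 2 ≤ s → (Nat.card G).factorization 2 ≤ s + 1) :
    Subgroup.centralizer (T : Set G) = ⊥ := by
  haveI := hprim
  set C := Subgroup.centralizer (T : Set G) with hCdef
  by_contra hC
  have htr : ∀ N : Subgroup G, N.Normal → N ≠ ⊥ → IsPretransitive N Ω := by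
    intro N hN hN'
    haveI := hN
    refine IsQuasiPreprimitive.isPretransitive_of_normal (G := G) fun h => hN' ?_
    rw [Subgroup.eq_bot_iff_forall]
    intro n hn
    refine FaithfulSMul.eq_of_smul_eq_smul (α := Ω) fun ω => ?_
    rw [one_smul]
    exact (Set.eq_univ_iff_forall.1 h ω) ⟨n, hn⟩
  haveI := htr T inferInstance hne
  haveI := htr C inferInstance hC
  have hcomm : ∀ t ∈ T, ∀ c ∈ C, Commute t c := fun t ht c hc =>
    Subgroup.mem_centralizer_iff.1 hc t ht
  have reg : ∀ N M : Subgroup G, IsPretransitive N Ω → IsPretransitive M Ω →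
      (∀ t ∈ N, ∀ c ∈ M, Commute t c) → Nat.card N = Nat.card Ω := by
    intro N M hN hM hc
    haveI := hN
    haveI := hM
    have h1 : stabilizer N α = ⊥ := by
      rw [Subgroup.eq_bot_iff_forall]
      intro t ht
      refine Subtype.ext (FaithfulSMul.eq_of_smul_eq_smul (α := Ω) fun ω => ?_)
      obtain ⟨m, rfl⟩ := exists_smul_eq M α ω
      show (t : G) • (m : G) • α = (1 : G) • (m : G) • α
      rw [one_smul, ← mul_smul, (hc t t.2 m m.2).eq, mul_smul,
        show (t : G) • α = α from mem_stabilizer_iff.1 ht]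
    have h2 := index_stabilizer_of_transitive (G := N) (x := α)
    rwa [h1, Subgroup.index_bot] at h2
  have hcardT := reg T C inferInstance inferInstance hcomm
  have hcardC := reg C T inferInstance inferInstance fun c hc t ht => (hcomm t ht c hc).symm
  let f : T × C →* G := T.subtype.noncommCoprod C.subtype fun t c => hcomm t t.2 c c.2
  have hf : Function.Injective f := by
    rw [injective_iff_map_eq_one]
    rintro ⟨t, c⟩ h
    have h' : (t : G) * c = 1 := h
    have h1 : (t : G) = 1 := Subgroup.disjoint_def.1 hTC t.2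
      (by rw [eq_inv_of_mul_eq_one_left h']; exact inv_mem c.2)
    rw [h1, one_mul] at h'
    exact Prod.ext (Subtype.ext h1) (Subtype.ext h')
  have hdvd := (Nat.factorization_le_iff_dvd Nat.card_pos.ne' Nat.card_pos.ne').2
    (Subgroup.card_dvd_of_injective f hf) 2
  rw [Nat.card_prod, Nat.factorization_mul Nat.card_pos.ne' Nat.card_pos.ne', Finsupp.add_apply,
    hcardT, hcardC, hs] at hdvd
  have hT2 := two_le_factorization_of_not_isSolvable hTns
  rw [hcardT, hs] at hT2
  have := hsmall hT2
  omega

/-- `A₇` has no element of order 9. -/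
theorem orderOf_alt7_ne_nine (x : alternatingGroup (Fin 7)) : orderOf x ≠ 9 := by
  intro hx
  have h : orderOf (x : Equiv.Perm (Fin 7)) ∣ 420 := by
    rw [← Equiv.Perm.lcm_cycleType]
    refine Multiset.lcm_dvd.2 fun k hk => ?_
    have h1 : k ≤ 7 := (Equiv.Perm.le_card_support_of_mem_cycleType hk).trans
      ((Finset.card_le_univ _).trans (by simp))
    have h2 := Equiv.Perm.two_le_of_mem_cycleType hk
    interval_cases k <;> norm_num
  rw [Subgroup.orderOf_coe, hx] at h
  norm_num at h

/-- The case that `B` is maximal. -/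
theorem primitive_case (hGW : GWApps.DihedralPerfect.{u}) {A B : Subgroup G} (h : Factor G A B)
    (hB : IsCoatom B) : IsPGL G ∧ TwoShape G := by
  classical
  haveI : Fact (Nat.Prime 2) := ⟨Nat.prime_two⟩
  haveI : Fact (Nat.Prime 3) := ⟨Nat.prime_three⟩
  haveI := h.cyc
  haveI := h.zg
  let x₀ : G ⧸ B := ((1 : G) : G ⧸ B)
  have hx₀ : stabilizer G x₀ = B := stabilizer_quotient B
  haveI : FaithfulSMul G (G ⧸ B) := by
    refine ⟨fun {g k} hgk => inv_mul_eq_one.1 ?_⟩
    have hmem : g⁻¹ * k ∈ B.normalCore := by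
      rw [Subgroup.normalCore_eq_ker, MonoidHom.mem_ker]
      exact Equiv.ext fun ω => by
        show (g⁻¹ * k) • ω = ω
        rw [mul_smul, ← hgk, inv_smul_smul]
    haveI : IsZGroup B.normalCore :=
      IsZGroup.of_injective (f := Subgroup.inclusion B.normalCore_le)
        (Subgroup.inclusion_injective _)
    rwa [h.rad B.normalCore inferInstance inferInstance, Subgroup.mem_bot] at hmem
  haveI htrA : IsPretransitive A (G ⧸ B) := by
    have key : ∀ ω : G ⧸ B, ∃ a : A, a • x₀ = ω := by
      intro ω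
      obtain ⟨g, rfl⟩ := QuotientGroup.mk_surjective ω
      obtain ⟨a, ha, b, hb, rfl⟩ := h.mul g
      refine ⟨⟨a, ha⟩, ?_⟩
      show (((a * 1 : G)) : G ⧸ B) = _
      rw [mul_one, QuotientGroup.eq, inv_mul_cancel_left]
      exact hb
    refine ⟨fun x y => ?_⟩
    obtain ⟨a, rfl⟩ := key x
    obtain ⟨a', rfl⟩ := key y
    exact ⟨a' * a⁻¹, by rw [mul_smul, inv_smul_smul]⟩
  have hreg : ∀ ω : G ⧸ B, stabilizer A ω = ⊥ := by
    intro ω
    obtain ⟨g, rfl⟩ := QuotientGroup.mk_surjective ω
    rw [Subgroup.eq_bot_iff_forall]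
    intro a ha
    refine Subtype.ext (h.eq_one_of_conj_mem a.2 (g := g⁻¹) ?_)
    have h1 : (((a : G) * g : G) : G ⧸ B) = (g : G ⧸ B) := mem_stabilizer_iff.1 ha
    rw [QuotientGroup.eq] at h1
    have h2 := inv_mem h1
    simpa [mul_assoc] using h2
  obtain ⟨n, hn⟩ : ∃ n, Nat.card (G ⧸ B) = n := ⟨_, rfl⟩
  have hnA : Nat.card A = n := by
    have h1 := index_stabilizer_of_transitive (G := A) (x := x₀)
    rw [hreg, Subgroup.index_bot] at h1
    exact h1.trans hn
  have hGn : Nat.card G = n * Nat.card B := hnA ▸ h.card_eq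
  haveI : Nontrivial (G ⧸ B) := by
    rw [← Finite.one_lt_card_iff_nontrivial, ← Subgroup.index_eq_card]
    have h1 : B.index ≠ 1 := by rw [Ne, Subgroup.index_eq_one]; exact hB.1
    have h2 : B.index ≠ 0 := Subgroup.index_ne_zero_of_finite
    omega
  have hn2 : 2 ≤ n := hn ▸ Finite.one_lt_card
  haveI hprim : IsPreprimitive G (G ⧸ B) :=
    (isCoatom_stabilizer_iff_preprimitive G x₀).1 (by rw [hx₀]; exact hB)
  -- `n` is even
  obtain ⟨s, hsdef⟩ : ∃ s, n.factorization 2 = s := ⟨_, rfl⟩
  have hvG : (Nat.card G).factorization 2 = s + (Nat.card B).factorization 2 := by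
    rw [hGn, Nat.factorization_mul (by omega) Nat.card_pos.ne', Finsupp.add_apply, hsdef]
  have hs1 : 1 ≤ s := by
    by_contra hs0
    obtain ⟨S⟩ : Nonempty (Sylow 2 B) := inferInstance
    have hS : Nat.card ((S : Subgroup B).map B.subtype) = 2 ^ (Nat.card G).factorization 2 := by
      rw [Subgroup.card_map_of_injective B.subtype_injective, S.card_eq_multiplicity, hvG,
        show s = 0 by omega, zero_add]
    exact h.nsol (GWApps.GenDihedral.isSolvable_of_cyclic_sylow (Sylow.ofCard _ hS)
      (show IsCyclic ((S : Subgroup B).map B.subtype) from isCyclic_of_surjective _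
        ((S : Subgroup B).equivMapOfInjective B.subtype B.subtype_injective).surjective))
  have heven : Even n := even_iff_two_dvd.2
    (Nat.dvd_of_factorization_pos (by rw [hsdef]; omega))
  have hn3 : 3 ≤ n := by
    by_contra hlt
    have h1 := Subgroup.card_dvd_of_injective (toPermHom G (G ⧸ B)) toPerm_injective
    rw [Nat.card_perm, hn, show n = 2 by omega, Nat.factorial_two] at h1
    have h4 := two_le_factorization_of_not_isSolvable h.nsol
    have h5 := (Nat.Prime.pow_dvd_iff_le_factorization Nat.prime_two Nat.card_pos.ne').2 h4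
    have h6 := Nat.le_of_dvd (by norm_num) (h5.trans h1)
    norm_num at h6
  have h2 : IsMultiplyPretransitive G (G ⧸ B) 2 := by
    by_cases hpp : IsPrimePow n
    · obtain ⟨p, k, hp, -, hpk⟩ := (isPrimePow_nat_iff _).1 hpp
      have hp2 : p = 2 := ((Nat.prime_dvd_prime_iff_eq Nat.prime_two hp).1
        (Nat.prime_two.dvd_of_dvd_pow (hpk ▸ even_iff_two_dvd.1 heven))).symm
      subst hp2
      have hk : 2 ≤ k := by
        rcases k with _ | _ | k
        · simp at hpk; omega
        · simp at hpk; omega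
        · omega
      exact two_transitive_of_two_pow hprim A htrA hreg hk (by rw [hn, hpk])
    · exact (Cfsg.Agent.S3559.result inferInstance (by rw [hn]; exact hn2) (by rwa [hn]) A h.cyc
        ⟨htrA, hreg⟩).resolve_left (not_not.2 hprim)
  have hZ : ZStab G (G ⧸ B) := by
    intro ω
    obtain ⟨g, rfl⟩ := exists_smul_eq G x₀ ω
    rw [stabilizer_smul_eq_stabilizer_map_conj, hx₀]
    exact isZGroup_congr (B.equivMapOfInjective _ (MulAut.conj g).injective) h.zg
  obtain ⟨a, haA, hao⟩ := exists_two_element A inferInstance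
  rw [hnA, hsdef] at hao
  have hsemi : Semiregular (G ⧸ B) a := by
    intro i ω hω
    have h1 : (⟨a ^ i, zpow_mem haA i⟩ : A) ∈ stabilizer A ω := hω
    rw [hreg ω, Subgroup.mem_bot] at h1
    exact congrArg Subtype.val h1
  have hnd : ¬ 2 ^ (s + 1) ∣ Nat.card (G ⧸ B) := by
    rw [hn, ← hsdef]
    exact Nat.pow_succ_factorization_not_dvd (by omega) Nat.prime_two
  have hsmall : 2 ≤ s → (Nat.card G).factorization 2 ≤ s + 1 := by
    intro hs2
    obtain ⟨P, hP⟩ := (IsPGroup.of_card (n := s) (by rw [Nat.card_zpowers, hao]) :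
      IsPGroup 2 (Subgroup.zpowers a)).exists_le_sylow
    have h1 := (small h2 hZ P a (hP (Subgroup.mem_zpowers a)) s hs2 hao hsemi hnd).1
    rw [P.card_eq_multiplicity] at h1
    exact (Nat.pow_le_pow_iff_right (by norm_num)).1 h1
  -- a minimal normal subgroup
  obtain ⟨T, ⟨hTn, hTne⟩, hTmin⟩ := (Set.toFinite
    {N : Subgroup G | N.Normal ∧ N ≠ ⊥}).exists_minimal ⟨⊤, inferInstance, fun htop => by
      apply h.nsol
      haveI : Subsingleton G := (Subgroup.subsingleton_iff).1 (subsingleton_of_bot_eq_top htop.symm)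
      infer_instance⟩
  haveI : T.Normal := hTn
  have hmin : ∀ N : Subgroup G, N.Normal → N ≤ T → N = ⊥ ∨ N = T := fun N hN hle =>
    (em (N = ⊥)).imp_right fun hne => le_antisymm hle (hTmin ⟨hN, hne⟩ hle)
  have hTns : ¬ Group.IsSolvable T := fun hs => hTne (h.rad T inferInstance hs)
  have hTnc : ¬ IsMulCommutative T := fun hc => hTns (Group.isSolvable_of_comm fun x y =>
    hc.is_comm.comm x y)
  haveI : IsSimpleGroup T := isSimple_of_minimal h2 T hTne hmin hTnc
  have hTC : Disjoint T (Subgroup.centralizer (T : Set G)) := by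
    rw [disjoint_iff]
    rcases hmin (T ⊓ Subgroup.centralizer (T : Set G)) inferInstance inf_le_left with h1 | h1
    · exact h1
    · exfalso
      refine hTnc ⟨⟨fun x y => Subtype.ext ?_⟩⟩
      exact Subgroup.mem_centralizer_iff.1 ((h1.ge.trans inf_le_right) y.2) x x.2
  have hC := centralizer_eq_bot hprim T hTne hTns hTC x₀ (s := s) (by rw [hn, hsdef]) hsmall
  -- `T` has dihedral Sylow 2-subgroups
  have hd : GW.HasDihedralSylow T := by
    rcases Nat.lt_or_ge s 2 with hs | hs
    · have hs' : s = 1 := by omega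
      rw [hs', pow_one] at hao
      exact hasDihedralSylow_one h2 hZ T hTnc hao hsemi (by rw [hs'] at hnd; simpa using hnd) x₀
    · exact hasDihedralSylow_of_two_le h2 hZ T hTnc hs hao hsemi hnd x₀
  haveI : Group.IsPerfect T := ⟨(IsSimpleGroup.eq_bot_or_eq_top_of_normal (commutator T)
    inferInstance).resolve_left fun hc => hTns ⟨⟨1, by rw [derivedSeries_one, hc]⟩⟩⟩
  have hO : Cfsg.oddCore T = ⊥ := by
    refine CfsgLib.Cores.oddCore_eq_bot_iff.2 fun N hN ho => ?_
    rcases IsSimpleGroup.eq_bot_or_eq_top_of_normal N hN with h1 | h1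
    · exact h1
    · exfalso
      rw [h1, Subgroup.card_top] at ho
      exact hTns (Cfsg.Agent.S0205.result ho)
  have hgw : GW.IsGWGroup T := GW.IsGWGroup.of_equiv
    ((QuotientGroup.quotientBot).symm.trans (QuotientGroup.quotientMulEquivOfEq hO.symm))
    (hGW T hd)
  obtain ⟨g, hg⟩ := IsCyclic.exists_ofOrder_eq_natCard (α := A)
  have hgo : orderOf (g : G) = n := by rw [Subgroup.orderOf_coe, hg, hnA]
  haveI : IsPretransitive T (G ⧸ B) := by
    refine IsQuasiPreprimitive.isPretransitive_of_normal (G := G) fun hfix => hTne ?_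
    rw [Subgroup.eq_bot_iff_forall]
    intro t ht
    refine FaithfulSMul.eq_of_smul_eq_smul (α := G ⧸ B) fun ω => ?_
    rw [one_smul]
    exact (Set.eq_univ_iff_forall.1 hfix ω) ⟨t, ht⟩
  have hTcard : Nat.card T = n * Nat.card (B ⊓ T : Subgroup G) := by
    have h1 : stabilizer T x₀ = B.subgroupOf T := by
      ext t
      rw [Subgroup.mem_subgroupOf]
      exact Iff.trans Iff.rfl (SetLike.ext_iff.1 hx₀ (t : G))
    rw [← Subgroup.subgroupOf_map_subtype, Subgroup.card_map_of_injective T.subtype_injective,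
      ← h1, ← hn, ← index_stabilizer_of_transitive (G := T) (x := x₀)]
    exact (Subgroup.index_mul_card _).symm
  haveI hH : IsZGroup (B ⊓ T : Subgroup G) :=
    IsZGroup.of_injective (f := Subgroup.inclusion (inf_le_left : B ⊓ T ≤ B))
      (Subgroup.inclusion_injective _)
  refine ⟨?_, ?_⟩
  · rcases hgw with ⟨F, iF, iT, hodd, h3, ⟨e⟩⟩ | ⟨⟨e⟩⟩
    · letI := iF
      letI := iT
      obtain ⟨hp, he⟩ := pgl_of_psl hodd h3 T hC e (a := (g : G)) (B ⊓ T) inf_le_right hH
        (by rw [hgo]; exact hTcard)
      exact ⟨F, iF, iT, hp, h3, he⟩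
    · exfalso
      have hT7 : Nat.card T = 2520 := by
        have h2' := two_mul_nat_card_alternatingGroup (α := Fin 7)
        rw [Nat.card_congr e.toEquiv]
        rw [Nat.card_perm, Nat.card_fin,
          show Nat.factorial 7 = 5040 from by norm_num [Nat.factorial]] at h2'
        omega
      refine alt7_false T hC e (a := (g : G)) (by rw [hgo]; exact heven) ?_ ?_ ?_
      · rw [hgo]
        haveI : IsPretransitive G (Fin 2 ↪ (G ⧸ B)) := h2
        haveI : Fintype (G ⧸ B) := Fintype.ofFinite _
        haveI : Nonempty (Fin 2 ↪ (G ⧸ B)) := Function.Embedding.nonempty_of_card_le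
          (by
            rw [Fintype.card_fin, ← Nat.card_eq_fintype_card, hn]
            exact hn2)
        obtain ⟨q⟩ := ‹Nonempty (Fin 2 ↪ (G ⧸ B))›
        have h1 : Nat.card (Fin 2 ↪ (G ⧸ B)) = n * (n - 1) := by
          rw [Nat.card_eq_fintype_card, Fintype.card_embedding_eq, Fintype.card_fin,
            ← Nat.card_eq_fintype_card, hn]
          simp [Nat.descFactorial_succ, mul_comm]
        rw [← h1, ← index_stabilizer_of_transitive (G := G) (x := q)]
        exact Subgroup.index_dvd_card _
      · rw [hgo]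
        by_contra h3'
        have h9 : 3 ^ 2 ∣ Nat.card (B ⊓ T : Subgroup G) := by
          refine Nat.Coprime.dvd_of_dvd_mul_left (k := 3 ^ 2) ?_ (m := n) ?_
          · exact Nat.Coprime.pow_left 2 ((Nat.prime_three.coprime_iff_not_dvd).2 h3')
          · rw [← hTcard, hT7]; norm_num
        obtain ⟨S⟩ : Nonempty (Sylow 3 (B ⊓ T : Subgroup G)) := inferInstance
        obtain ⟨z, hz⟩ := IsCyclic.exists_ofOrder_eq_natCard
          (α := (S : Subgroup (B ⊓ T : Subgroup G)))
        have hv := (Nat.Prime.pow_dvd_iff_le_factorization Nat.prime_three Nat.card_pos.ne').1 h9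
        rw [S.card_eq_multiplicity] at hz
        obtain ⟨w, hw⟩ : ∃ w : (S : Subgroup (B ⊓ T : Subgroup G)), orderOf w = 9 := by
          refine ⟨_, orderOf_pow_orderOf_div (x := z) (n := 9) (orderOf_pos z).ne' ?_⟩
          rw [hz]
          exact (show (9 : ℕ) = 3 ^ 2 by norm_num) ▸ pow_dvd_pow 3 hv
        let w' : T := Subgroup.inclusion inf_le_right (w : (B ⊓ T : Subgroup G))
        refine orderOf_alt7_ne_nine (e w') ?_
        rw [MulEquiv.orderOf_eq, ← hw]
        exact (orderOf_injective (Subgroup.inclusion inf_le_right)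
          (Subgroup.inclusion_injective _) _).trans (Subgroup.orderOf_coe w)
      · rw [hgo]
        have h1 := Subgroup.card_dvd_of_injective (toPermHom G (G ⧸ B)) toPerm_injective
        rwa [Nat.card_perm, hn] at h1
  · rcases Nat.lt_or_ge s 2 with hs | hs
    · obtain ⟨S⟩ : Nonempty (Sylow 2 (stabilizer G x₀)) := inferInstance
      obtain ⟨P, hP⟩ := (S.isPGroup'.map (stabilizer G x₀).subtype).exists_le_sylow
      haveI := hZ x₀
      refine ⟨P, _, hP, isCyclic_of_surjective _
        ((S : Subgroup (stabilizer G x₀)).equivMapOfInjective _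
          (stabilizer G x₀).subtype_injective).surjective,
        fun hc => h.nsol (GWApps.GenDihedral.isSolvable_of_cyclic_sylow P hc), ?_⟩
      rw [Subgroup.card_map_of_injective (stabilizer G x₀).subtype_injective,
        S.card_eq_multiplicity]
      have h1 := card_le_of_index_bound (P := P) hnd x₀
      rwa [show s = 1 by omega, pow_one] at h1
    · obtain ⟨P, hP⟩ := (IsPGroup.of_card (n := s) (by rw [Nat.card_zpowers, hao]) :
        IsPGroup 2 (Subgroup.zpowers a)).exists_le_sylow
      refine ⟨P, Subgroup.zpowers a, hP, inferInstance,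
        fun hc => h.nsol (GWApps.GenDihedral.isSolvable_of_cyclic_sylow P hc), ?_⟩
      rw [Nat.card_zpowers, hao, P.card_eq_multiplicity, mul_comm, ← pow_succ]
      exact Nat.pow_le_pow_right (by norm_num) (hsmall hs)

end CfsgLib.ZFact
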