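import Cfsg.Agent.Lib.ZFact.Basic

/-!
# The action of the centraliser of an element on its fixed points, and the inverting case

`fixedHom` is the action of `C(b)` on the fixed points of `b`. `card_le_of_inverting` shows that a
2-group with a semiregular cyclic subgroup of order `2 ^ s` inverted by an involution fixing a point
has order at most `2 ^ (s + 1)`.
-/

set_option autoImplicit false

namespace CfsgLib.ZFact

open MulAction

variable {G : Type*} [Group G] [Finite G] {Ω : Type*} [MulAction G Ω]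

variable (Ω) in
/-- The fixed points of `b`. -/
def Fix (b : G) : Type _ := {γ : Ω // b • γ = γ}

omit [Finite G] in
theorem smul_fix {b g : G} (hg : g ∈ Subgroup.centralizer ({b} : Set G)) {γ : Ω}
    (hγ : b • γ = γ) : b • g • γ = g • γ := by
  rw [← mul_smul, ← Subgroup.mem_centralizer_singleton_iff.1 hg, mul_smul, hγ]

omit [Finite G] in
variable (Ω) in
/-- The action of the centraliser of `b` on the fixed points of `b`. -/
def fixedHom (b : G) : ↥(Subgroup.centralizer ({b} : Set G)) →* Equiv.Perm (Fix Ω b) where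
  toFun g :=
    { toFun := fun γ => ⟨(g : G) • γ.1, smul_fix g.2 γ.2⟩
      invFun := fun γ => ⟨((g⁻¹ : ↥(Subgroup.centralizer ({b} : Set G))) : G) • γ.1,
        smul_fix g⁻¹.2 γ.2⟩
      left_inv := fun γ => Subtype.ext (by simp)
      right_inv := fun γ => Subtype.ext (by simp) }
  map_one' := Equiv.ext fun γ => Subtype.ext (one_smul G γ.1)
  map_mul' g h := Equiv.ext fun γ => Subtype.ext (mul_smul (g : G) (h : G) γ.1)

omit [Finite G] in
theorem fixedHom_apply {b : G} (g : ↥(Subgroup.centralizer ({b} : Set G))) (γ : Fix Ω b) :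
    (fixedHom Ω b g γ).1 = (g : G) • γ.1 := rfl

omit [Finite G] in
theorem fixedHom_eq_one_iff {b : G} (g : ↥(Subgroup.centralizer ({b} : Set G))) :
    fixedHom Ω b g = 1 ↔ ∀ γ : Ω, b • γ = γ → (g : G) • γ = γ := by
  constructor
  · intro h γ hγ
    exact congrArg Subtype.val (DFunLike.congr_fun h ⟨γ, hγ⟩)
  · exact fun h => Equiv.ext fun γ => Subtype.ext (h γ.1 γ.2)

/-- Involutions of a Z-group are conjugate. -/
theorem exists_conj_of_isZGroup {H : Subgroup G} (hH : IsZGroup H) {x y : G} (hx : x ∈ H)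
    (hy : y ∈ H) (hx2 : orderOf x = 2) (hy2 : orderOf y = 2) : ∃ h ∈ H, h * x * h⁻¹ = y := by
  haveI : Fact (Nat.Prime 2) := ⟨Nat.prime_two⟩
  haveI := hH
  have hp : ∀ w : H, orderOf w = 2 → ∃ S : Sylow 2 H, w ∈ (S : Subgroup H) := fun w hw => by
    have hw' : IsPGroup 2 (Subgroup.zpowers w) :=
      IsPGroup.of_card (n := 1) (by rw [Nat.card_zpowers, hw, pow_one])
    obtain ⟨S, hS⟩ := hw'.exists_le_sylow
    exact ⟨S, hS (Subgroup.mem_zpowers w)⟩
  obtain ⟨S, hS⟩ := hp ⟨x, hx⟩ (by rw [Subgroup.orderOf_mk]; exact hx2)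
  obtain ⟨T, hT⟩ := hp ⟨y, hy⟩ (by rw [Subgroup.orderOf_mk]; exact hy2)
  obtain ⟨h, rfl⟩ := MulAction.exists_smul_eq H S T
  refine ⟨h, h.2, eq_of_commute_of_isZGroup hH (mul_mem (mul_mem h.2 hx) (inv_mem h.2)) hy ?_ hy2 ?_⟩
  · rw [show (h : G) * x * (h : G)⁻¹ = MulAut.conj (h : G) x from rfl, MulEquiv.orderOf_eq, hx2]
  · have h1 : h * ⟨x, hx⟩ * h⁻¹ ∈ ((h • S : Sylow 2 H) : Subgroup H) :=
      ⟨⟨x, hx⟩, hS, rfl⟩
    exact congrArg Subtype.val (commute_of_isCyclic h1 hT)

omit [Finite G] in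
theorem mem_normalizer_of_conj_mem [Finite G] {a g : G} (h : g * a * g⁻¹ ∈ Subgroup.zpowers a) :
    g ∈ Subgroup.normalizer (Subgroup.zpowers a : Set G) := by
  have hle : (Subgroup.zpowers a).map (MulAut.conj g).toMonoidHom ≤ Subgroup.zpowers a := by
    rw [MonoidHom.map_zpowers, Subgroup.zpowers_le]
    exact h
  have heq := Subgroup.eq_of_le_of_card_ge hle
    (Subgroup.card_map_of_injective (K := Subgroup.zpowers a) (f := (MulAut.conj g).toMonoidHom)
      (MulAut.conj g).injective).ge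
  rw [Subgroup.mem_normalizer_iff]
  intro n
  conv_rhs => rw [← heq]
  exact ⟨fun hn => ⟨n, hn, rfl⟩, fun ⟨m, hm, he⟩ => (MulAut.conj g).injective he ▸ hm⟩

omit [Finite G] in
/-- Computations with an element inverting a cyclic group. -/
theorem dihedral_conj {p ρ : G} (hi : ρ * p * ρ⁻¹ = p⁻¹) (t i : ℤ) :
    p ^ t * (p ^ i * ρ) * p ^ (-t) = p ^ (i + 2 * t) * ρ := by
  have h : ∀ k : ℤ, ρ * p ^ k = p ^ (-k) * ρ := fun k => by
    have := conj_zpow (a := ρ) (b := p) (i := k)
    rw [hi, inv_zpow'] at this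
    rw [this, inv_mul_cancel_right]
  rw [mul_assoc (p ^ t) , mul_assoc (p ^ i), h, neg_neg, ← mul_assoc, ← mul_assoc, ← zpow_add,
    ← zpow_add]
  congr 2
  ring

omit [Finite G] in
theorem dihedral_sq {p ρ : G} (hi : ρ * p * ρ⁻¹ = p⁻¹) (hρ : ρ * ρ = 1) (i : ℤ) :
    (p ^ i * ρ) * (p ^ i * ρ) = 1 := by
  have h : ρ * p ^ i = p ^ (-i) * ρ := by
    have := conj_zpow (a := ρ) (b := p) (i := i)
    rw [hi, inv_zpow'] at this
    rw [this, inv_mul_cancel_right]
  calc p ^ i * ρ * (p ^ i * ρ) = p ^ i * (ρ * p ^ i) * ρ := by group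
    _ = p ^ i * p ^ (-i) * (ρ * ρ) := by rw [h]; group
    _ = 1 := by rw [hρ, mul_one, zpow_neg, mul_inv_cancel]

/-- The automorphism relation for the square of an element cannot be inversion. -/
theorem not_sq_inverting {a w : G} {s : ℕ} (hs : 2 ≤ s) (ha : orderOf a = 2 ^ s)
    (hw : w ∈ Subgroup.normalizer (Subgroup.zpowers a : Set G))
    (h : (w * w) * a * (w * w)⁻¹ = a⁻¹ ∨
      (3 ≤ s ∧ (w * w) * a * (w * w)⁻¹ = a⁻¹ * a ^ 2 ^ (s - 1))) : False := by
  obtain ⟨u, hu⟩ := Subgroup.mem_zpowers_iff.1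
    ((Subgroup.mem_normalizer_iff.1 hw a).1 (Subgroup.mem_zpowers a))
  have h2 : (w * w) * a * (w * w)⁻¹ = a ^ (u * u) := by
    calc (w * w) * a * (w * w)⁻¹ = w * (w * a * w⁻¹) * w⁻¹ := by group
      _ = a ^ (u * u) := by rw [← hu, ← conj_zpow, ← hu, zpow_mul]
  rw [h2] at h
  have key : ∀ v : ℤ, a ^ (u * u) = a ^ v → (4 : ℤ) ∣ v + 1 → False := by
    intro v hv h4
    rw [zpow_eq_zpow_iff_modEq, ha] at hv
    have h4' : (4 : ℤ) ∣ v - u * u := by
      have := Int.ModEq.dvd hv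
      refine dvd_trans ?_ this
      push_cast
      exact ⟨2 ^ (s - 2), by rw [show (4 : ℤ) = 2 ^ 2 by norm_num, ← pow_add]; congr 1; omega⟩
    obtain ⟨k, hk⟩ := dvd_sub h4 h4'
    rcases Int.even_or_odd u with ⟨m, rfl⟩ | ⟨m, rfl⟩
    · ring_nf at hk
      omega
    · have : (2 * m + 1) * (2 * m + 1) = 4 * (m * m + m) + 1 := by ring
      omega
  rcases h with h | ⟨hs3, h⟩
  · exact key (-1) (by rw [h, zpow_neg_one]) (by norm_num)
  · refine key (-1 + ((2 ^ (s - 1) : ℕ) : ℤ)) (by rw [h, zpow_add, zpow_neg_one, zpow_natCast]) ?_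
    rw [neg_add_eq_sub, sub_add_cancel]
    push_cast
    exact ⟨2 ^ (s - 3), by rw [show (4 : ℤ) = 2 ^ 2 by norm_num, ← pow_add]; congr 1; omega⟩

/-- A 2-group with a semiregular cyclic subgroup of order `2 ^ s`, inverted by an involution fixing
a point, and with orbit of length `2 ^ s`, has order at most `2 ^ (s + 1)`. -/
theorem card_le_of_inverting (hZ : ZStab G Ω) {P : Subgroup G} (hP : IsPGroup 2 P) {a b : G}
    {s : ℕ} (hs : 2 ≤ s) (ha : orderOf a = 2 ^ s) (hsemi : Semiregular Ω a) (haP : a ∈ P)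
    (hbP : b ∈ P) (hb : orderOf b = 2) {α : Ω} (hbα : b • α = α)
    (hcard : Nat.card P ≤ 2 ^ s * Nat.card ↥(P ⊓ stabilizer G α))
    (hrel : b * a * b⁻¹ = a⁻¹ ∨ (3 ≤ s ∧ b * a * b⁻¹ = a⁻¹ * a ^ 2 ^ (s - 1))) :
    Nat.card P ≤ 2 ^ (s + 1) := by
  classical
  haveI : Fact (Nat.Prime 2) := ⟨Nat.prime_two⟩
  haveI hcyc := hZ.isCyclic hP α
  have hbn : b ∈ Subgroup.normalizer (Subgroup.zpowers a : Set G) := by
    apply mem_normalizer_of_conj_mem
    rcases hrel with h | ⟨-, h⟩
    · rw [h]; exact inv_mem (Subgroup.mem_zpowers a)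
    · rw [h]; exact mul_mem (inv_mem (Subgroup.mem_zpowers a)) (pow_mem (Subgroup.mem_zpowers a) _)
  have hbb : b * b = 1 := by rw [← pow_two]; exact hb ▸ pow_orderOf_eq_one b
  -- the point stabiliser in the normaliser
  have hW : ∀ w ∈ P ⊓ stabilizer G α, w ∈ Subgroup.normalizer (Subgroup.zpowers a : Set G) →
      w = 1 ∨ w = b := by
    intro w hw hwn
    by_cases hw1 : w = 1
    · exact Or.inl hw1
    right
    obtain ⟨k, hk⟩ := IsPGroup.iff_orderOf.1 hP ⟨w, hw.1⟩
    rw [Subgroup.orderOf_mk] at hk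
    rcases k with _ | k
    · exact absurd (orderOf_eq_one_iff.1 (by simpa using hk)) hw1
    have hinv : orderOf (w ^ 2 ^ k) = 2 := by
      have := orderOf_half (a := w) (s := k + 1) (by omega) hk
      simpa using this
    have heq : w ^ 2 ^ k = b :=
      eq_of_commute_of_isZGroup (hZ α) (pow_mem hw.2 _) (mem_stabilizer_iff.2 hbα) hinv hb
        (commute_of_isCyclic (H := P ⊓ stabilizer G α) (pow_mem hw _) ⟨hbP, hbα⟩)
    rcases k with _ | k
    · simpa using heq
    exfalso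
    apply not_sq_inverting hs ha (pow_mem hwn (2 ^ k))
    rwa [← pow_add, show 2 ^ k + 2 ^ k = 2 ^ (k + 1) by ring, heq]
  let a' : P := ⟨a, haP⟩
  set N : Subgroup P := Subgroup.normalizer (Subgroup.zpowers a' : Set P) with hN
  have hmemN : ∀ x : P, x ∈ N →
      (x : G) ∈ Subgroup.normalizer (Subgroup.zpowers a : Set G) := by
    intro x hx
    apply mem_normalizer_of_conj_mem
    obtain ⟨i, hi⟩ := Subgroup.mem_zpowers_iff.1
      ((Subgroup.mem_normalizer_iff.1 hx a').1 (Subgroup.mem_zpowers a'))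
    exact ⟨i, by simpa [a'] using congrArg Subtype.val hi⟩
  have hform : ∀ x : P, x ∈ N → ∃ i : ℤ, (x : G) = a ^ i ∨ (x : G) = a ^ i * b := by
    intro x hx
    obtain ⟨i, w, hw, hxw⟩ := decomposition ha hsemi haP hcard x.2
    have hwn : w ∈ Subgroup.normalizer (Subgroup.zpowers a : Set G) := by
      have : w = (a ^ i)⁻¹ * x := by rw [hxw, inv_mul_cancel_left]
      rw [this]
      exact mul_mem (inv_mem (Subgroup.le_normalizer ⟨i, rfl⟩)) (hmemN x hx)
    rcases hW w hw hwn with rfl | rfl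
    · exact ⟨i, Or.inl (by rw [hxw, mul_one])⟩
    · exact ⟨i, Or.inr hxw⟩
  -- the normaliser is self-normalising
  have hNN : Subgroup.normalizer (N : Set P) ≤ N := by
    intro g hg
    have hag : g * a' * g⁻¹ ∈ N :=
      (Subgroup.mem_normalizer_iff.1 hg a').1 (Subgroup.le_normalizer (Subgroup.mem_zpowers a'))
    obtain ⟨i, hi | hi⟩ := hform _ hag
    · have : (Subgroup.zpowers a').map (MulAut.conj g).toMonoidHom ≤ Subgroup.zpowers a' := by
        rw [MonoidHom.map_zpowers, Subgroup.zpowers_le]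
        exact ⟨i, Subtype.ext (by simpa [a'] using hi.symm)⟩
      exact mem_normalizer_of_conj_mem (this ⟨a', Subgroup.mem_zpowers a', rfl⟩)
    · exfalso
      have hord : orderOf (a ^ i * b) = 2 ^ s := by
        rw [← hi, Subgroup.orderOf_coe,
          show g * a' * g⁻¹ = MulAut.conj g a' from rfl, MulEquiv.orderOf_eq, Subgroup.orderOf_mk]
        exact ha
      have hsq : (a ^ i * b) * (a ^ i * b) = a ^ i * (b * a * b⁻¹) ^ i := by
        rw [conj_zpow, inv_eq_of_mul_eq_one_right hbb]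
        group
      rcases hrel with h | ⟨hs3, h⟩
      · rw [h, inv_zpow, mul_inv_cancel] at hsq
        have h1 : (a ^ i * b) ^ 2 = 1 := by rw [pow_two]; exact hsq
        have h2 := orderOf_dvd_of_pow_eq_one h1
        rw [hord] at h2
        have := Nat.le_of_dvd (by norm_num) h2
        have : 2 ^ 2 ≤ 2 ^ s := Nat.pow_le_pow_right (by norm_num) hs
        omega
      · have hz2 : (a ^ 2 ^ (s - 1)) ^ 2 = 1 := by
          have h' := pow_orderOf_eq_one (a ^ 2 ^ (s - 1))
          rwa [orderOf_half (by omega) ha] at h'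
        rw [h, (show Commute a⁻¹ (a ^ 2 ^ (s - 1)) from
          ((Commute.refl a).inv_left.pow_right _)).mul_zpow, inv_zpow, mul_inv_cancel_left] at hsq
        have h1 : (a ^ i * b) ^ 4 = 1 := by
          rw [show (4 : ℕ) = 2 * 2 by rfl, pow_mul, pow_two (a ^ i * b), hsq,
            ← zpow_natCast, ← zpow_mul, mul_comm, zpow_mul, zpow_natCast, hz2, one_zpow]
        have h2 := orderOf_dvd_of_pow_eq_one h1
        rw [hord] at h2
        have := Nat.le_of_dvd (by norm_num) h2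
        have : 2 ^ 3 ≤ 2 ^ s := Nat.pow_le_pow_right (by norm_num) hs3
        omega
  have hNtop : N = ⊤ := by
    by_contra hne
    haveI := hP.isNilpotent
    exact (Group.normalizerCondition_of_isNilpotent N (lt_top_iff_ne_top.2 hne)).not_ge hNN
  -- count
  let f : Subgroup.zpowers a × Bool → G := fun q => (q.1 : G) * if q.2 then b else 1
  have hsub : (P : Set G) ⊆ Set.range f := by
    intro x hx
    obtain ⟨i, hi | hi⟩ := hform ⟨x, hx⟩ (hNtop ▸ Subgroup.mem_top _)
    · exact ⟨(⟨a ^ i, i, rfl⟩, false), by simpa [f] using hi.symm⟩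
    · exact ⟨(⟨a ^ i, i, rfl⟩, true), by simpa [f] using hi.symm⟩
  calc Nat.card P ≤ Nat.card (Set.range f) := Nat.card_mono (Set.toFinite _) hsub
    _ ≤ Nat.card (Subgroup.zpowers a × Bool) := Finite.card_range_le f
    _ = 2 ^ (s + 1) := by
      rw [Nat.card_prod, Nat.card_zpowers, ha, Nat.card_eq_fintype_card (α := Bool),
        Fintype.card_bool, pow_succ]

end CfsgLib.ZFact
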