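import Cfsg.Agent.Lib.ZFact.Setup
import Cfsg.Agent.Lib.Fixity.RegularAbelian
import Cfsg.Agent.Lib.ElementOrders.FPFFactor

/-!
# Factorisations `G = AB`: general lemmas

The shape of the Sylow 2-subgroups forbids two commuting normal factors; a primitive group with a
regular cyclic subgroup of 2-power order at least 4 is 2-transitive.
-/

set_option autoImplicit false
set_option linter.style.haveILetI false

namespace CfsgLib.ZFact

open MulAction

universe u

variable {G : Type u} [Group G]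

/-- `G = AB` with `A` cyclic, `B` a Z-group, `G` non-solvable without solvable normal subgroups. -/
structure Factor (G : Type u) [Group G] (A B : Subgroup G) : Prop where
  cyc : IsCyclic A
  zg : IsZGroup B
  mul : ∀ g : G, ∃ a ∈ A, ∃ b ∈ B, g = a * b
  nsol : ¬ Group.IsSolvable G
  rad : ∀ N : Subgroup G, N.Normal → Group.IsSolvable N → N = ⊥

/-- Non-cyclic Sylow 2-subgroups with a cyclic subgroup of index at most two. -/
def TwoShape (G : Type u) [Group G] : Prop :=
  ∃ (P : Sylow 2 G) (Y : Subgroup G), Y ≤ (P : Subgroup G) ∧ IsCyclic Y ∧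
    ¬ IsCyclic (P : Subgroup G) ∧ Nat.card (P : Subgroup G) ≤ 2 * Nat.card Y

variable [Finite G]

theorem TwoShape.of_equiv {H : Type u} [Group H] [Finite H] (e : G ≃* H) (h : TwoShape G) :
    TwoShape H := by
  haveI : Fact (Nat.Prime 2) := ⟨Nat.prime_two⟩
  obtain ⟨P, Y, hY, hYc, hP, hcard⟩ := h
  have hsurj : Function.Surjective e.toMonoidHom := e.surjective
  have hcoe : ((P.mapSurjective hsurj : Sylow 2 H) : Subgroup H) =
      (P : Subgroup G).map e.toMonoidHom := rfl
  refine ⟨P.mapSurjective hsurj, Y.map e.toMonoidHom, ?_, ?_, ?_, ?_⟩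
  · rw [hcoe]
    exact Subgroup.map_mono hY
  · exact isCyclic_of_surjective _ (Y.equivMapOfInjective e.toMonoidHom e.injective).surjective
  · intro h
    apply hP
    rw [hcoe] at h
    haveI := h
    exact isCyclic_of_surjective _
      ((P : Subgroup G).equivMapOfInjective e.toMonoidHom e.injective).symm.surjective
  · rw [hcoe, Subgroup.card_map_of_injective (K := (P : Subgroup G))
      (f := e.toMonoidHom) e.injective, Subgroup.card_map_of_injective (K := Y)
      (f := e.toMonoidHom) e.injective]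
    exact hcard

theorem TwoShape.facts (h : TwoShape G) :
    (2 ≤ (Nat.card G).factorization 2) ∧
    (∀ x : G, ∀ k : ℕ, orderOf x = 2 ^ k → k + 1 ≤ (Nat.card G).factorization 2) ∧
    (∀ x y : G, ∀ k l : ℕ, orderOf x = 2 ^ k → orderOf y = 2 ^ l →
      orderOf (x * x) = 2 → orderOf (y * y) = 2 → ∃ g : G, g * (x * x) * g⁻¹ = y * y) := by
  haveI : Fact (Nat.Prime 2) := ⟨Nat.prime_two⟩
  obtain ⟨P, Y, hY, hYc, hP, hcard⟩ := h
  haveI := hYc
  set κ := (Nat.card G).factorization 2 with hκ
  have hPc : Nat.card (P : Subgroup G) = 2 ^ κ := P.card_eq_multiplicity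
  have hconj : ∀ x : G, ∀ k : ℕ, orderOf x = 2 ^ k → ∃ g : G, g * x * g⁻¹ ∈ (P : Subgroup G) := by
    intro x k hx
    obtain ⟨Q, hQ⟩ := (IsPGroup.of_card (n := k) (by rw [Nat.card_zpowers, hx]) :
      IsPGroup 2 (Subgroup.zpowers x)).exists_le_sylow
    obtain ⟨g, hg⟩ := MulAction.exists_smul_eq G Q P
    exact ⟨g, hg ▸ ⟨x, hQ (Subgroup.mem_zpowers x), rfl⟩⟩
  refine ⟨?_, ?_, ?_⟩
  · by_contra hlt
    apply hP
    rcases Nat.lt_or_ge κ 1 with h1 | h1
    · haveI : Subsingleton (P : Subgroup G) :=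
        (Nat.card_eq_one_iff_unique.1 (by rw [hPc, show κ = 0 by omega, pow_zero])).1
      exact isCyclic_of_subsingleton
    · exact isCyclic_of_prime_card (p := 2) (by rw [hPc, show κ = 1 by omega, pow_one])
  · intro x k hx
    obtain ⟨g, hg⟩ := hconj x k hx
    have ho : orderOf (g * x * g⁻¹) = 2 ^ k := by
      rw [show g * x * g⁻¹ = MulAut.conj g x from rfl, MulEquiv.orderOf_eq, hx]
    have hle : Subgroup.zpowers (g * x * g⁻¹) ≤ (P : Subgroup G) := Subgroup.zpowers_le.2 hg
    have h1 := Subgroup.card_dvd_of_le hle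
    rw [Nat.card_zpowers, ho, hPc, Nat.pow_dvd_pow_iff_le_right (by norm_num)] at h1
    rcases h1.lt_or_eq with h2 | h2
    · omega
    · exfalso
      apply hP
      rw [← Subgroup.eq_of_le_of_card_ge hle (by rw [Nat.card_zpowers, ho, hPc, h2])]
      infer_instance
  · intro x y k l hx hy hx2 hy2
    have hne : (Y.subgroupOf (P : Subgroup G)).index = 2 := by
      have h1 := Subgroup.card_mul_index (Y.subgroupOf (P : Subgroup G))
      rw [Nat.card_congr (Subgroup.subgroupOfEquivOfLe hY).toEquiv] at h1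
      have hle : (Y.subgroupOf (P : Subgroup G)).index ≤ 2 := by
        refine Nat.le_of_mul_le_mul_left (a := (Y.subgroupOf (P : Subgroup G)).index) ?_
          (Nat.card_pos (α := Y))
        rw [h1, mul_comm (Nat.card Y) 2]
        exact hcard
      have hne1 : (Y.subgroupOf (P : Subgroup G)).index ≠ 1 := by
        rw [Ne, Subgroup.index_eq_one, Subgroup.subgroupOf_eq_top]
        intro h
        apply hP
        rw [le_antisymm h hY]
        exact hYc
      have : (Y.subgroupOf (P : Subgroup G)).index ≠ 0 := Subgroup.index_ne_zero_of_finite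
      omega
    have hsq : ∀ z : G, z ∈ (P : Subgroup G) → z * z ∈ Y := fun z hz =>
      Subgroup.mem_subgroupOf.1 (Subgroup.mul_self_mem_of_index_two hne (⟨z, hz⟩ : (P : Subgroup G)))
    obtain ⟨g, hg⟩ := hconj x k hx
    obtain ⟨g', hg'⟩ := hconj y l hy
    have h1 : orderOf ((g * x * g⁻¹) * (g * x * g⁻¹)) = 2 := by
      rw [conj_mul, show g * (x * x) * g⁻¹ = MulAut.conj g (x * x) from rfl, MulEquiv.orderOf_eq,
        hx2]
    have h2 : orderOf ((g' * y * g'⁻¹) * (g' * y * g'⁻¹)) = 2 := by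
      rw [conj_mul, show g' * (y * y) * g'⁻¹ = MulAut.conj g' (y * y) from rfl, MulEquiv.orderOf_eq,
        hy2]
    have heq := eq_of_commute_of_isZGroup (H := Y) inferInstance (hsq _ hg) (hsq _ hg') h1 h2
      (commute_of_isCyclic (hsq _ hg) (hsq _ hg'))
    rw [conj_mul, conj_mul] at heq
    refine ⟨g'⁻¹ * g, ?_⟩
    calc g'⁻¹ * g * (x * x) * (g'⁻¹ * g)⁻¹ = g'⁻¹ * (g * (x * x) * g⁻¹) * g' := by group
      _ = y * y := by rw [heq]; group

/-- A nonidentity element of `A` has no conjugate in `B`. -/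
theorem Factor.eq_one_of_conj_mem {A B : Subgroup G} (h : Factor G A B) {x g : G} (hx : x ∈ A)
    (hg : g * x * g⁻¹ ∈ B) : x = 1 := by
  haveI := h.cyc
  obtain ⟨a, ha, b, hb, hab⟩ := h.mul g⁻¹
  have hxB : x ∈ B := by
    have h1 : b⁻¹ * (a⁻¹ * x * a) * b ∈ B := by
      have : g = b⁻¹ * a⁻¹ := by rw [← mul_inv_rev, ← hab, inv_inv]
      rw [this] at hg
      simpa [mul_assoc] using hg
    have h2 := mul_mem (mul_mem hb h1) (inv_mem hb)
    rw [show b * (b⁻¹ * (a⁻¹ * x * a) * b) * b⁻¹ = a⁻¹ * x * a by group,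
      mul_assoc, commute_of_isCyclic hx ha, inv_mul_cancel_left] at h2
    exact h2
  have hcore : x ∈ B.normalCore := by
    intro k
    obtain ⟨a', ha', b', hb', hab'⟩ := h.mul k⁻¹
    have hk : k = b'⁻¹ * a'⁻¹ := by rw [← mul_inv_rev, ← hab', inv_inv]
    rw [hk, show b'⁻¹ * a'⁻¹ * x * (b'⁻¹ * a'⁻¹)⁻¹ = b'⁻¹ * (a'⁻¹ * x * a') * b' by group,
      mul_assoc a'⁻¹, commute_of_isCyclic hx ha', inv_mul_cancel_left]
    exact mul_mem (mul_mem (inv_mem hb') hxB) hb'
  haveI := h.zg
  haveI : IsZGroup B.normalCore :=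
    IsZGroup.of_injective (f := Subgroup.inclusion B.normalCore_le) (Subgroup.inclusion_injective _)
  rw [h.rad B.normalCore inferInstance inferInstance, Subgroup.mem_bot] at hcore
  exact hcore

theorem Factor.card_eq {A B : Subgroup G} (h : Factor G A B) :
    Nat.card G = Nat.card A * Nat.card B := by
  rw [← Nat.card_prod]
  refine (Nat.card_congr (Equiv.ofBijective (fun p : A × B => (p.1 : G) * p.2) ⟨?_, ?_⟩)).symm
  · rintro ⟨⟨a, ha⟩, ⟨b, hb⟩⟩ ⟨⟨a', ha'⟩, ⟨b', hb'⟩⟩ he
    simp only at he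
    have h1 : a'⁻¹ * a = b' * b⁻¹ := by
      rw [eq_mul_inv_iff_mul_eq, mul_assoc, he, inv_mul_cancel_left]
    have h2 := h.eq_one_of_conj_mem (g := 1) (mul_mem (inv_mem ha') ha) (by
      rw [one_mul, inv_one, mul_one, h1]; exact mul_mem hb' (inv_mem hb))
    rw [inv_mul_eq_one] at h2
    subst h2
    simp [mul_left_cancel he]
  · intro g
    obtain ⟨a, ha, b, hb, rfl⟩ := h.mul g
    exact ⟨(⟨a, ha⟩, ⟨b, hb⟩), rfl⟩

omit [Finite G] in
/-- The Sylow 2-generator of a subgroup with cyclic Sylow 2-subgroups. -/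
theorem exists_two_element [Finite G] (C : Subgroup G) (hC : IsZGroup C) :
    ∃ x ∈ C, orderOf x = 2 ^ (Nat.card C).factorization 2 := by
  haveI : Fact (Nat.Prime 2) := ⟨Nat.prime_two⟩
  haveI := hC
  obtain ⟨S⟩ : Nonempty (Sylow 2 C) := inferInstance
  obtain ⟨g, hg⟩ := IsCyclic.exists_ofOrder_eq_natCard (α := (S : Subgroup C))
  refine ⟨((g : C) : G), (g : C).2, ?_⟩
  rw [Subgroup.orderOf_coe, Subgroup.orderOf_coe, hg, S.card_eq_multiplicity]

/-- Two commuting normal factors of the shape are impossible. -/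
theorem no_two_factors_aux {A B : Subgroup G} (h : Factor G A B) (K L : Subgroup G) [K.Normal]
    [L.Normal] (hd : Disjoint K L) (ht : K ⊔ L = ⊤) (hK : TwoShape K) (hL : TwoShape L)
    (hle : (Nat.card L).factorization 2 ≤ (Nat.card K).factorization 2) : False := by
  haveI : Fact (Nat.Prime 2) := ⟨Nat.prime_two⟩
  obtain ⟨hK2, hKbd, hKsq⟩ := hK.facts
  obtain ⟨hL2, hLbd, -⟩ := hL.facts
  set κ := (Nat.card K).factorization 2 with hκ
  set l := (Nat.card L).factorization 2 with hl
  have hGcard : Nat.card G = Nat.card K * Nat.card L :=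
    (Subgroup.IsComplement'.card_mul (Subgroup.isComplement'_of_disjoint_and_mul_eq_univ hd (by
      rw [← Subgroup.normal_mul, ht]; rfl))).symm
  obtain ⟨a, ha, hao⟩ := exists_two_element A (haveI := h.cyc; inferInstance)
  obtain ⟨b, hb, hbo⟩ := exists_two_element B h.zg
  set α := (Nat.card A).factorization 2 with hα
  set β := (Nat.card B).factorization 2 with hβ
  have hsum : α + β = κ + l := by
    have h1 := congrArg (fun n : ℕ => n.factorization 2) (h.card_eq.symm.trans hGcard)
    simp only [Nat.factorization_mul Nat.card_pos.ne' Nat.card_pos.ne', Finsupp.add_apply] at h1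
    exact h1
  -- the projection on `K` of a 2-element
  have key : ∀ x : G, ∀ k : ℕ, orderOf x = 2 ^ k → k + 1 ≤ κ ∧
      (l + 1 ≤ k → ∃ y : K, (∃ m, orderOf y = 2 ^ m) ∧ orderOf (y * y) = 2 ∧
        ((y * y : K) : G) = x ^ 2 ^ (k - 1)) := by
    intro x k hx
    obtain ⟨y, hy, z, hz, hyz⟩ := Subgroup.mem_sup_of_normal_right.1
      (show x ∈ K ⊔ L from ht ▸ Subgroup.mem_top x)
    have hc : Commute y z := Subgroup.commute_of_normal_of_disjoint K L inferInstance inferInstance
      hd y z hy hz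
    have hpow : ∀ n : ℕ, x ^ n = 1 → y ^ n = 1 ∧ z ^ n = 1 := by
      intro n hn
      rw [← hyz, hc.mul_pow] at hn
      have h1 : y ^ n ∈ L := by rw [eq_inv_of_mul_eq_one_left hn]; exact inv_mem (pow_mem hz n)
      have h2 : y ^ n = 1 := Subgroup.disjoint_def.1 hd (pow_mem hy n) h1
      rw [h2, one_mul] at hn
      exact ⟨h2, hn⟩
    obtain ⟨hy1, hz1⟩ := hpow (2 ^ k) (hx ▸ pow_orderOf_eq_one x)
    obtain ⟨i, hik, hi⟩ := (Nat.dvd_prime_pow Nat.prime_two).1 (orderOf_dvd_of_pow_eq_one hy1)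
    obtain ⟨j, hjk, hj⟩ := (Nat.dvd_prime_pow Nat.prime_two).1 (orderOf_dvd_of_pow_eq_one hz1)
    have hi' := hKbd ⟨y, hy⟩ i (by rw [Subgroup.orderOf_mk]; exact hi)
    have hj' := hLbd ⟨z, hz⟩ j (by rw [Subgroup.orderOf_mk]; exact hj)
    have hkmax : k ≤ max i j := by
      have : x ^ 2 ^ max i j = 1 := by
        rw [← hyz, hc.mul_pow, orderOf_dvd_iff_pow_eq_one.1 (hi ▸ pow_dvd_pow 2 (le_max_left i j)),
          orderOf_dvd_iff_pow_eq_one.1 (hj ▸ pow_dvd_pow 2 (le_max_right i j)), one_mul]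
      have h2 := orderOf_dvd_of_pow_eq_one this
      rwa [hx, Nat.pow_dvd_pow_iff_le_right (by norm_num)] at h2
    refine ⟨by omega, fun hlk => ?_⟩
    have hzpow : z ^ 2 ^ (k - 1) = 1 :=
      orderOf_dvd_iff_pow_eq_one.1 (hj ▸ pow_dvd_pow 2 (by omega))
    have hxy : x ^ 2 ^ (k - 1) = y ^ 2 ^ (k - 1) := by rw [← hyz, hc.mul_pow, hzpow, mul_one]
    obtain ⟨m, hm, hmo⟩ := (Nat.dvd_prime_pow Nat.prime_two).1
      (orderOf_pow_dvd (x := (⟨y, hy⟩ : K)) (2 ^ (k - 2)) |>.trans
        (dvd_of_eq ((Subgroup.orderOf_mk y hy).trans hi)))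
    refine ⟨(⟨y, hy⟩ : K) ^ 2 ^ (k - 2), ⟨m, hmo⟩, ?_, ?_⟩
    · rw [← Subgroup.orderOf_coe, Subgroup.coe_mul, SubmonoidClass.coe_pow, ← pow_add, ← two_mul,
        ← pow_succ', show k - 2 + 1 = k - 1 by omega, ← hxy]
      exact orderOf_half (by omega) hx
    · rw [Subgroup.coe_mul, SubmonoidClass.coe_pow, ← pow_add, ← two_mul, ← pow_succ',
        show k - 2 + 1 = k - 1 by omega, hxy]
  obtain ⟨hα1, hαy⟩ := key a α hao
  obtain ⟨hβ1, hβy⟩ := key b β hbo
  obtain ⟨y, ⟨m, hm⟩, hy2, hye⟩ := hαy (by omega)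
  obtain ⟨y', ⟨m', hm'⟩, hy'2, hy'e⟩ := hβy (by omega)
  obtain ⟨g, hg⟩ := hKsq y y' m m' hm hm' hy2 hy'2
  have hgc := congrArg (fun r : K => (r : G)) hg
  simp only [Subgroup.coe_mul, InvMemClass.coe_inv] at hgc
  rw [← Subgroup.coe_mul, hye, ← Subgroup.coe_mul, hy'e] at hgc
  have h1 := h.eq_one_of_conj_mem (pow_mem ha (2 ^ (α - 1))) (g := (g : G))
    (by rw [hgc]; exact pow_mem hb _)
  have h2 := orderOf_half (by omega) hao
  rw [h1, orderOf_one] at h2
  omega

theorem no_two_factors {A B : Subgroup G} (h : Factor G A B) (K L : Subgroup G) [K.Normal]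
    [L.Normal] (hd : Disjoint K L) (ht : K ⊔ L = ⊤) (hK : TwoShape K) (hL : TwoShape L) : False := by
  rcases le_total ((Nat.card L).factorization 2) ((Nat.card K).factorization 2) with h1 | h1
  · exact no_two_factors_aux h K L hd ht hK hL h1
  · exact no_two_factors_aux h L K hd.symm (by rw [sup_comm]; exact ht) hL hK h1

/-- A normal subgroup has no solvable normal subgroups if the group has none. -/
theorem rad_of_normal (hrad : ∀ N : Subgroup G, N.Normal → Group.IsSolvable N → N = ⊥)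
    (K : Subgroup G) [K.Normal] (N : Subgroup K) (hN : N.Normal) (hs : Group.IsSolvable N) :
    N = ⊥ := by
  classical
  obtain ⟨R, ⟨hRn, hRs⟩, hRmax⟩ := (Set.toFinite
    {M : Subgroup K | M.Normal ∧ Group.IsSolvable M}).exists_maximal ⟨N, hN, hs⟩
  have hall : ∀ M : Subgroup K, M.Normal → Group.IsSolvable M → M ≤ R := by
    intro M hM hMs
    haveI := hRn
    haveI := hM
    have hsup : R ⊔ M ∈ {M : Subgroup K | M.Normal ∧ Group.IsSolvable M} :=
      ⟨inferInstance, CfsgLib.ElementOrders.isSolvable_sup_of_le_normalizer hRs hMs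
        (by rw [Subgroup.normalizer_eq_top R]; exact le_top)⟩
    exact le_sup_right.trans (hRmax hsup le_sup_left)
  have hnormal : (R.map K.subtype).Normal := by
    refine ⟨fun x hx g => ?_⟩
    obtain ⟨r, hr, rfl⟩ := hx
    let φ : K ≃* K := MulAut.conjNormal g
    have h1 : (R.map φ.toMonoidHom).Normal := hRn.map _ φ.surjective
    have h2 : Group.IsSolvable (R.map φ.toMonoidHom) := by
      haveI := hRs
      exact Group.isSolvable_of_surjective
        (f := (R.equivMapOfInjective φ.toMonoidHom φ.injective).toMonoidHom)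
        (R.equivMapOfInjective φ.toMonoidHom φ.injective).surjective
    exact ⟨φ r, hall _ h1 h2 ⟨r, hr, rfl⟩, by simp [φ]⟩
  have hsol : Group.IsSolvable (R.map K.subtype) := by
    haveI := hRs
    exact Group.isSolvable_of_surjective
      (f := (R.equivMapOfInjective K.subtype K.subtype_injective).toMonoidHom)
      (R.equivMapOfInjective K.subtype K.subtype_injective).surjective
  have hbot := hrad _ hnormal hsol
  rw [Subgroup.map_eq_bot_iff_of_injective _ K.subtype_injective] at hbot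
  exact le_bot_iff.1 (hbot ▸ hall N hN hs)

variable {Ω : Type u} [MulAction G Ω] [Finite Ω]

/-- A primitive group with a regular cyclic subgroup of order `2 ^ k ≥ 4` is 2-transitive. -/
theorem two_transitive_of_two_pow (hprim : IsPreprimitive G Ω) (C : Subgroup G) [IsCyclic C]
    (htr : IsPretransitive C Ω) (hreg : ∀ a : Ω, stabilizer C a = ⊥) {k : ℕ} (hk : 2 ≤ k)
    (hn : Nat.card Ω = 2 ^ k) : IsMultiplyPretransitive G Ω 2 := by
  classical
  haveI := hprim
  haveI := htr
  haveI : IsPretransitive G Ω :=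
    ⟨fun x y => by obtain ⟨c, hc⟩ := exists_smul_eq C x y; exact ⟨c, hc⟩⟩
  have hpos : 0 < Nat.card Ω := by rw [hn]; positivity
  haveI : Nonempty Ω := (Nat.card_pos_iff.1 hpos).1
  letI : CommGroup C := IsCyclic.commGroup
  have hfree : ∀ (x y : C) (ω : Ω), x • ω = y • ω → x = y := fun x y ω h => by
    have hmem : y⁻¹ * x ∈ stabilizer C ω := by
      rw [mem_stabilizer_iff, mul_smul, h, inv_smul_smul]
    rw [hreg ω, Subgroup.mem_bot] at hmem
    exact (inv_mul_eq_one.1 hmem).symm
  obtain ⟨α⟩ := ‹Nonempty Ω›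
  have hbij : Function.Bijective fun c : C => c • α :=
    ⟨fun x y h => hfree x y α h, fun w => exists_smul_eq C α w⟩
  have hcard : Nat.card C = 2 ^ k := (Nat.card_eq_of_bijective _ hbij).trans hn
  obtain ⟨g, hg⟩ := IsCyclic.exists_ofOrder_eq_natCard (α := C)
  rw [hcard] at hg
  have he := orderOf_half (G := C) (a := g) (s := k) (by omega) hg
  set e : C := g ^ 2 ^ (k - 1) with hedef
  have hsols : ∀ t : C, t ^ 2 = 1 → t = 1 ∨ t = e := by
    intro t ht
    by_cases h1 : t = 1
    · exact Or.inl h1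
    haveI : IsCyclic (⊤ : Subgroup C) :=
      isCyclic_of_surjective _ (Subgroup.topEquiv (G := C)).symm.surjective
    exact Or.inr (eq_of_commute_of_isZGroup (H := ⊤) inferInstance (Subgroup.mem_top t)
      (Subgroup.mem_top e) (orderOf_eq_prime ht h1) he (mul_comm t e))
  have he2 : e ^ 2 = 1 := he ▸ pow_orderOf_eq_one e
  have hcount : Nat.card {x : C // x ^ 2 = 1} = 2 := by
    rw [Nat.card_eq_two_iff]
    refine ⟨⟨1, one_pow 2⟩, ⟨e, he2⟩, fun h => ?_, Set.eq_univ_of_forall fun x => ?_⟩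
    · have h' := congrArg Subtype.val h
      dsimp only at h'
      rw [← h', orderOf_one] at he
      omega
    · rcases hsols x.1 x.2 with h | h
      · exact Or.inl (Subtype.ext h)
      · exact Or.inr (Subtype.ext h)
  -- every suborbit contains `e • α`
  have key : ∀ w : Ω, w ≠ α → e • α ∈ orbit (stabilizer G α) w := by
    intro w hw
    by_contra hno
    have hmem : ∀ t : C, t • α ∈ orbit (stabilizer G α) w →
        (t * e) • α ∈ orbit (stabilizer G α) w := by
      intro t ht
      by_cases ht2 : t ^ 2 = 1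
      · exfalso
        rcases hsols t ht2 with rfl | rfl
        · obtain ⟨h, hh⟩ := ht
          rw [one_smul] at hh
          have hh' : h • w = α := hh
          apply hw
          calc w = (h⁻¹ : stabilizer G α) • h • w := (inv_smul_smul h w).symm
            _ = (h⁻¹ : stabilizer G α) • α := by rw [hh']
            _ = α := mem_stabilizer_iff.1 (h⁻¹ : stabilizer G α).2
        · exact hno ht
      · exact CfsgLib.Fixity.mem_suborbit_of_pow_eq_one hprim C (fun x y => mul_comm x y) htr hreg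
          Nat.prime_two hcount ht ht2 he2
    let R : Ω → Ω → Prop := fun x y => ∃ h : G, h • α = x ∧ h • w = y
    have hRinv : ∀ (h : G) x y, R x y → R (h • x) (h • y) := fun h x y ⟨f, h1, h2⟩ =>
      ⟨h * f, by rw [mul_smul, h1], by rw [mul_smul, h2]⟩
    have hRorb : ∀ z, R α z ↔ z ∈ orbit (stabilizer G α) w := fun z =>
      ⟨fun ⟨f, h1, h2⟩ => ⟨⟨f, h1⟩, h2⟩, fun ⟨f, hf⟩ => ⟨f, f.2, hf⟩⟩
    have hequiv : ∀ z, R α z ↔ R (e • α) z := by
      intro z
      have hshift : ∀ z, R (e • α) z ↔ R α (e • z) := by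
        intro z
        have hee : ∀ y : Ω, e • e • y = y := fun y => by rw [← mul_smul, ← pow_two, he2, one_smul]
        constructor
        · intro h
          have := hRinv (e : G) _ _ h
          rwa [show (e : G) • e • α = α from hee α] at this
        · intro h
          have := hRinv (e : G) _ _ h
          rwa [show (e : G) • e • z = z from hee z] at this
      rw [hshift, hRorb, hRorb]
      obtain ⟨t, rfl⟩ := exists_smul_eq C α z
      constructor
      · intro ht
        rw [← mul_smul, mul_comm]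
        exact hmem t ht
      · intro ht
        rw [← mul_smul] at ht
        have := hmem _ ht
        rwa [mul_comm e t, mul_assoc, ← pow_two, he2, mul_one] at this
    let R' : Ω → Ω → Prop := fun x y => ∀ z, R x z ↔ R y z
    have hR' : ∀ (h : G) x y, R' x y → R' (h • x) (h • y) := by
      intro h x y hxy z
      constructor
      · intro hz
        have := (hxy (h⁻¹ • z)).1 (by simpa using hRinv h⁻¹ _ _ hz)
        simpa using hRinv h _ _ this
      · intro hz
        have := (hxy (h⁻¹ • z)).2 (by simpa using hRinv h⁻¹ _ _ hz)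
        simpa using hRinv h _ _ this
    have hne : α ≠ e • α := fun h => by
      have h1 := hfree e 1 α (by rw [one_smul, ← h])
      rw [h1, orderOf_one] at he
      omega
    have hall := CfsgLib.Fixity.eqvGen_univ_of_primitive hprim R' hR' hne hequiv α w
    have hR'eq : Equivalence R' :=
      ⟨fun x z => Iff.rfl, fun h z => (h z).symm, fun h1 h2 z => (h1 z).trans (h2 z)⟩
    have hαw : R' α w := hR'eq.eqvGen_iff.1 hall
    obtain ⟨f, hf1, hf2⟩ := (hαw w).1 ⟨1, one_smul _ _, one_smul _ _⟩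
    exact hw (MulAction.injective f (hf2.trans hf1.symm))
  rw [is_two_pretransitive_iff]
  intro a b c d hab hcd
  obtain ⟨g1, hg1⟩ := exists_smul_eq G a α
  obtain ⟨g2, hg2⟩ := exists_smul_eq G c α
  have h1 := key (g1 • b) (fun h => hab (MulAction.injective g1 (hg1.trans h.symm)))
  have h2 := key (g2 • d) (fun h => hcd (MulAction.injective g2 (hg2.trans h.symm)))
  obtain ⟨u, hu⟩ := h1
  obtain ⟨v, hv⟩ := h2
  refine ⟨g2⁻¹ * (v : G)⁻¹ * u * g1, ?_, ?_⟩
  · rw [mul_smul, hg1, mul_smul, mem_stabilizer_iff.1 u.2, mul_smul,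
      inv_smul_eq_iff.2 (mem_stabilizer_iff.1 v.2).symm, ← hg2, inv_smul_smul]
  · rw [mul_smul, mul_smul, show (u : G) • g1 • b = e • α from hu, mul_smul,
      inv_smul_eq_iff.2 (show e • α = (v : G) • g2 • d from hv.symm), inv_smul_smul]

end CfsgLib.ZFact
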