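import Cfsg.Agent.Lib.ZFact.TwoTrans

/-!
# The structure theorem for the Sylow 2-subgroups, by induction on the degree
-/

set_option autoImplicit false
set_option linter.style.haveILetI false
open Cfsg

namespace CfsgLib.ZFact

open MulAction

universe u

variable {G : Type u} [Group G] [Finite G] {Ω : Type u} [MulAction G Ω]

theorem card_le_of_index_bound {P : Sylow 2 G} {s : ℕ} [IsPretransitive G Ω] [Finite Ω]
    (hnd : ¬ 2 ^ (s + 1) ∣ Nat.card Ω) (α : Ω) :
    Nat.card (P : Subgroup G) ≤ 2 ^ s * 2 ^ (Nat.card (stabilizer G α)).factorization 2 := by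
  haveI : Nonempty Ω := ⟨α⟩
  have hG : Nat.card G = Nat.card Ω * Nat.card (stabilizer G α) := by
    rw [← Subgroup.index_mul_card (stabilizer G α), index_stabilizer_of_transitive]
  rw [P.card_eq_multiplicity, ← pow_add, hG,
    Nat.factorization_mul Nat.card_pos.ne' Nat.card_pos.ne', Finsupp.add_apply]
  refine Nat.pow_le_pow_right (by norm_num) (Nat.add_le_add_right ?_ _)
  by_contra h
  exact hnd ((pow_dvd_pow 2 (by omega)).trans (Nat.ordProj_dvd _ 2))

/-- The involution fixing the base point normalises the semiregular subgroup, unless that is the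
whole group. -/
theorem mem_normalizer_or_le (hZ : ZStab G Ω) {P : Subgroup G} (hP : IsPGroup 2 P) {a b : G}
    {s : ℕ} (ha : orderOf a = 2 ^ s) (hsemi : Semiregular Ω a) (haP : a ∈ P) {α : Ω}
    (hcard : Nat.card P ≤ 2 ^ s * Nat.card ↥(P ⊓ stabilizer G α))
    (hbP : b ∈ P) (hb : orderOf b = 2) (hbα : b • α = α) :
    b ∈ Subgroup.normalizer (Subgroup.zpowers a : Set G) ∨ P ≤ Subgroup.zpowers a := by
  haveI : Fact (Nat.Prime 2) := ⟨Nat.prime_two⟩
  by_cases hle : P ≤ Subgroup.zpowers a
  · exact Or.inr hle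
  left
  let A : Subgroup P := (Subgroup.zpowers a).subgroupOf P
  have hA : A < ⊤ := lt_top_iff_ne_top.2 fun h => hle fun x hx => by
    have hm : (⟨x, hx⟩ : P) ∈ A := by rw [h]; exact Subgroup.mem_top _
    exact Subgroup.mem_subgroupOf.1 hm
  haveI := hP.isNilpotent
  obtain ⟨x, hxN, hxA⟩ := SetLike.exists_of_lt (Group.normalizerCondition_of_isNilpotent A hA)
  have hxn : (x : G) ∈ Subgroup.normalizer (Subgroup.zpowers a : Set G) := by
    apply mem_normalizer_of_conj_mem
    exact Subgroup.mem_subgroupOf.1 ((Subgroup.mem_normalizer_iff.1 hxN ⟨a, haP⟩).1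
      (Subgroup.mem_subgroupOf.2 (Subgroup.mem_zpowers a)))
  obtain ⟨i, w, hw, hxw⟩ := decomposition ha hsemi haP hcard x.2
  have hwn : w ∈ Subgroup.normalizer (Subgroup.zpowers a : Set G) := by
    rw [show w = (a ^ i)⁻¹ * x by rw [hxw, inv_mul_cancel_left]]
    exact mul_mem (inv_mem (Subgroup.le_normalizer ⟨i, rfl⟩)) hxn
  obtain ⟨e, he⟩ := IsPGroup.iff_orderOf.1 hP ⟨w, hw.1⟩
  rw [Subgroup.orderOf_mk] at he
  rcases e with _ | e
  · exfalso
    apply hxA
    have hw1 : w = 1 := orderOf_eq_one_iff.1 (by simpa using he)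
    exact Subgroup.mem_subgroupOf.2 ⟨i, by rw [hxw, hw1, mul_one]⟩
  have hord : orderOf (w ^ 2 ^ e) = 2 := by
    simpa using orderOf_half (a := w) (s := e + 1) (by omega) he
  haveI := hZ.isCyclic hP α
  have heq : w ^ 2 ^ e = b := hZ.eq_of_commute α
    (mem_stabilizer_iff.1 (pow_mem hw.2 _)) hbα hord hb
    (commute_of_isCyclic (H := P ⊓ stabilizer G α) (pow_mem hw _) ⟨hbP, hbα⟩)
  exact heq ▸ pow_mem hwn _

set_option maxHeartbeats 800000 in
theorem small_aux : ∀ N : ℕ, SmallBelow.{u} N := by
  intro N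
  induction N with
  | zero => intro H Δ _ _ _ _ _ h; exact absurd h (Nat.not_lt_zero _)
  | succ N ih =>
    intro G Ω _ _ _ _ _ hlt h2 hZ
    have hIH : SmallBelow.{u} (Nat.card Ω) := fun H Δ _ _ _ _ _ h => ih H Δ (by omega)
    haveI : Fact (Nat.Prime 2) := ⟨Nat.prime_two⟩
    haveI : IsPretransitive G Ω := isPretransitive_of_is_two_pretransitive (h2 := h2)
    intro P a haP s hs ha hsemi hnd
    have hcyc2 : ∀ x : G, orderOf x = 2 → ∀ ω : Ω, x • ω = ω → ∀ R : Subgroup G, x ∈ R →
        2 ≤ Nat.card ↥(R ⊓ stabilizer G ω) := by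
      intro x hx ω hω R hxR
      rw [← hx, ← Nat.card_zpowers]
      exact Subgroup.card_le_of_le (Subgroup.zpowers_le.2 ⟨hxR, hω⟩)
    have hz2 : (a ^ 2 ^ (s - 1)) ^ 2 = 1 := by
      have h := pow_orderOf_eq_one (a ^ 2 ^ (s - 1))
      rwa [orderOf_half (by omega) ha] at h
    have hone : Nat.card (P : Subgroup G) ≤ 2 ^ (s + 1) := by
      rcases isEmpty_or_nonempty Ω with hΩ | hΩ
      · exact absurd (by rw [Nat.card_of_isEmpty]; exact dvd_zero _) hnd
      obtain ⟨α⟩ := hΩ
      have hbound := card_le_of_index_bound (P := P) hnd α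
      obtain ⟨Q⟩ : Nonempty (Sylow 2 (stabilizer G α)) := inferInstance
      by_cases hQ : (Nat.card (stabilizer G α)).factorization 2 = 0
      · rw [hQ, pow_zero, mul_one] at hbound
        exact hbound.trans (Nat.pow_le_pow_right (by norm_num) (by omega))
      have h2dvd : 2 ∣ Nat.card (Q : Subgroup (stabilizer G α)) := by
        rw [Q.card_eq_multiplicity]
        exact dvd_pow_self 2 hQ
      obtain ⟨b0, hb0⟩ := exists_prime_orderOf_dvd_card' 2 h2dvd
      set b : G := ((b0 : stabilizer G α) : G) with hbdef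
      have hb : orderOf b = 2 := by rw [hbdef, Subgroup.orderOf_coe, Subgroup.orderOf_coe, hb0]
      have hbα : b • α = α := (b0 : stabilizer G α).2
      set C : Subgroup G := Subgroup.centralizer ({b} : Set G) with hC
      set Q1 : Subgroup G := (Q : Subgroup (stabilizer G α)).map (stabilizer G α).subtype with hQ1
      haveI := hZ α
      haveI hQc : IsCyclic (Q : Subgroup (stabilizer G α)) := Q.isPGroup'.isCyclic_of_isZGroup
      have hQ1C : Q1 ≤ C := by
        rintro _ ⟨y, hy, rfl⟩
        refine Subgroup.mem_centralizer_singleton_iff.2 ?_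
        exact congrArg Subtype.val (commute_of_isCyclic hy b0.2)
      have hQ1P : IsPGroup 2 Q1 := Q.isPGroup'.map _
      obtain ⟨SC, hSC⟩ :=
        (hQ1P.of_equiv (Subgroup.subgroupOfEquivOfLe hQ1C).symm).exists_le_sylow
      obtain ⟨P', hP'⟩ := (SC.isPGroup'.map C.subtype).exists_le_sylow
      have hQ1P' : Q1 ≤ (P' : Subgroup G) := fun y hy =>
        hP' ⟨⟨y, hQ1C hy⟩, hSC (Subgroup.mem_subgroupOf.2 hy), rfl⟩
      have hbQ : b ∈ Q1 := ⟨b0, b0.2, rfl⟩
      obtain ⟨g, hg⟩ := MulAction.exists_smul_eq G P P'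
      set a' : G := g * a * g⁻¹ with ha'
      have ha'P : a' ∈ (P' : Subgroup G) := by
        rw [← hg]
        exact ⟨a, haP, rfl⟩
      have ha'o : orderOf a' = 2 ^ s := by
        rw [ha', show g * a * g⁻¹ = MulAut.conj g a from rfl, MulEquiv.orderOf_eq, ha]
      have hsemi' : Semiregular Ω a' := hsemi.conj g
      have hcard' : Nat.card (P' : Subgroup G) ≤
          2 ^ s * Nat.card ↥((P' : Subgroup G) ⊓ stabilizer G α) := by
        refine (card_le_of_index_bound (P := P') hnd α).trans (Nat.mul_le_mul_left _ ?_)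
        rw [← Q.card_eq_multiplicity,
          ← Subgroup.card_map_of_injective (K := (Q : Subgroup (stabilizer G α)))
            (stabilizer G α).subtype_injective]
        exact Subgroup.card_le_of_le (le_inf hQ1P' (Subgroup.map_subtype_le _))
      have hmax : ∀ R : Subgroup G, R ≤ C → IsPGroup 2 R →
          Nat.card R ≤ Nat.card ↥((P' : Subgroup G) ⊓ C) := by
        intro R hR hR2
        obtain ⟨T, hT⟩ := (hR2.of_equiv (Subgroup.subgroupOfEquivOfLe hR).symm).exists_le_sylow
        calc Nat.card R = Nat.card (R.subgroupOf C) :=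
              (Nat.card_congr (Subgroup.subgroupOfEquivOfLe hR).toEquiv).symm
          _ ≤ Nat.card (T : Subgroup C) := Subgroup.card_le_of_le hT
          _ = Nat.card (SC : Subgroup C) :=
              T.card_eq_multiplicity.trans SC.card_eq_multiplicity.symm
          _ = Nat.card ((SC : Subgroup C).map C.subtype) :=
              (Subgroup.card_map_of_injective C.subtype_injective).symm
          _ ≤ _ := Subgroup.card_le_of_le (le_inf hP' (Subgroup.map_subtype_le _))
      have hPP' : Nat.card (P : Subgroup G) = Nat.card (P' : Subgroup G) :=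
        P.card_eq_multiplicity.trans P'.card_eq_multiplicity.symm
      rw [hPP']
      have hbP' : b ∈ (P' : Subgroup G) := hQ1P' hbQ
      rcases mem_normalizer_or_le hZ P'.isPGroup' ha'o hsemi' ha'P hcard' hbP' hb hbα
        with hbn | hle
      swap
      · exact (Subgroup.card_le_of_le hle).trans (by
          rw [Nat.card_zpowers, ha'o]
          exact Nat.pow_le_pow_right (by norm_num) (by omega))
      have hbinv : b⁻¹ = b := inv_eq_of_mul_eq_one_right (by
        rw [← pow_two]; exact hb ▸ pow_orderOf_eq_one b)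
      have hsq : b * (b * a' * b⁻¹) * b⁻¹ = a' := by
        rw [show b * (b * a' * b⁻¹) * b⁻¹ = (b * b) * a' * (b * b)⁻¹ by group,
          mul_eq_one_iff_eq_inv.2 hbinv.symm]
        group
      have hz2' : (a' ^ 2 ^ (s - 1)) ^ 2 = 1 := by
        have h := pow_orderOf_eq_one (a' ^ 2 ^ (s - 1))
        rwa [orderOf_half (by omega) ha'o] at h
      have hgood : b * a' * b⁻¹ = a'⁻¹ ∨
          (3 ≤ s ∧ b * a' * b⁻¹ = a'⁻¹ * a' ^ 2 ^ (s - 1)) := by
        rcases conj_cases hs ha'o
          ((Subgroup.mem_normalizer_iff.1 hbn a').1 (Subgroup.mem_zpowers a')) hsq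
          with h | h | h | h
        · exact absurd (mul_inv_eq_iff_eq_mul.1 h).symm (fun hc =>
            no_central h2 hZ hIH P' hs ha'o hsemi' ha'P hcard' hbP' hb hbα hc)
        · rcases Nat.lt_or_ge s 3 with h3 | h3
          · left
            obtain rfl : s = 2 := by omega
            rw [h]
            apply mul_left_cancel (a := a')
            rw [mul_inv_cancel, ← mul_assoc, ← pow_two, ← pow_add]
            norm_num
            exact orderOf_dvd_iff_pow_eq_one.1 (by rw [ha'o]; norm_num)
          · exact absurd (no_semicentral h2 hZ hIH P'.isPGroup' h3 ha'o hsemi' ha'P hcard' hbP' hb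
              hbα h hmax) not_false
        · exact Or.inl h
        · rcases Nat.lt_or_ge s 3 with h3 | h3
          · exfalso
            obtain rfl : s = 2 := by omega
            have h' : b * a' * b⁻¹ = a' := by
              rw [h, pow_one, pow_two, inv_mul_cancel_left]
            exact no_central h2 hZ hIH P' hs ha'o hsemi' ha'P hcard' hbP' hb hbα
              (mul_inv_eq_iff_eq_mul.1 h').symm
          · exact Or.inr ⟨h3, h⟩
      exact card_le_of_inverting hZ P'.isPGroup' hs ha'o hsemi' ha'P hbP' hb hbα hcard' hgood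
    refine ⟨hone, ?_⟩
    intro x hxP hx ω hω
    have hcardx : ∀ R : Subgroup G, Nat.card R ≤ 2 ^ (s + 1) → x ∈ R →
        Nat.card R ≤ 2 ^ s * Nat.card ↥(R ⊓ stabilizer G ω) := fun R hR hxR =>
      hR.trans (by rw [pow_succ]; exact Nat.mul_le_mul_left _ (hcyc2 x hx ω hω R hxR))
    have hcard := hcardx P hone hxP
    rcases mem_normalizer_or_le hZ P.isPGroup' ha hsemi haP hcard hxP hx hω with hxn | hle
    swap
    · obtain ⟨i, hi⟩ := Subgroup.mem_zpowers_iff.1 (hle hxP)
      have := hsemi i ω (by rw [hi, hω])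
      rw [hi] at this
      rw [this, orderOf_one] at hx
      omega
    have hsq : x * (x * a * x⁻¹) * x⁻¹ = a := by
      rw [show x * (x * a * x⁻¹) * x⁻¹ = (x * x) * a * (x * x)⁻¹ by group, ← pow_two,
        show x ^ 2 = 1 from hx ▸ pow_orderOf_eq_one x]
      group
    rcases conj_cases hs ha ((Subgroup.mem_normalizer_iff.1 hxn a).1 (Subgroup.mem_zpowers a)) hsq
      with h | h | h | h
    · exact absurd (mul_inv_eq_iff_eq_mul.1 h).symm (fun hc =>
        no_central h2 hZ hIH P hs ha hsemi haP hcard hxP hx hω hc)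
    · rcases Nat.lt_or_ge s 3 with h3 | h3
      · left
        obtain rfl : s = 2 := by omega
        rw [h]
        apply mul_left_cancel (a := a)
        rw [mul_inv_cancel, ← mul_assoc, ← pow_two, ← pow_add]
        norm_num
        exact orderOf_dvd_iff_pow_eq_one.1 (by rw [ha]; norm_num)
      exfalso
      refine no_semicentral h2 hZ hIH P.isPGroup' h3 ha hsemi haP hcard hxP hx hω h ?_
      intro R hR hR2
      by_contra hlt'
      push_neg at hlt'
      set S := (P : Subgroup G) ⊓ Subgroup.centralizer ({x} : Set G) with hS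
      have ha2 : orderOf (a ^ 2) = 2 ^ (s - 1) := by
        rw [orderOf_pow, ha, Nat.gcd_eq_right (dvd_pow_self 2 (by omega))]
        exact Nat.div_eq_of_eq_mul_left (by norm_num) (by rw [← pow_succ]; congr 1; omega)
      have ha2C : a ^ 2 ∈ Subgroup.centralizer ({x} : Set G) := by
        have h1 : x * a ^ 2 * x⁻¹ = a ^ 2 := by
          rw [← conj_pow, h, ((Commute.refl a).pow_right _).mul_pow, hz2, mul_one]
        exact Subgroup.mem_centralizer_singleton_iff.2 (mul_inv_eq_iff_eq_mul.1 h1).symm
      have hsemi2 : Semiregular Ω (a ^ 2) := fun i γ hγ => by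
        rw [← zpow_natCast, ← zpow_mul] at hγ ⊢
        exact hsemi _ _ hγ
      have hlow : 2 ^ s ≤ Nat.card S := by
        refine le_trans ?_ (card_mul_le ha2 hsemi2
          (show a ^ 2 ∈ S from ⟨pow_mem haP 2, ha2C⟩) ω)
        calc 2 ^ s = 2 ^ (s - 1) * 2 := by rw [← pow_succ]; congr 1; omega
          _ ≤ _ := Nat.mul_le_mul_left _ (hcyc2 x hx ω hω S
              ⟨hxP, Subgroup.mem_centralizer_singleton_iff.2 rfl⟩)
      obtain ⟨P'', hP''⟩ := hR2.exists_le_sylow
      have hcard'' : Nat.card (P'' : Subgroup G) = Nat.card (P : Subgroup G) :=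
        P''.card_eq_multiplicity.trans P.card_eq_multiplicity.symm
      have hReq : R = (P'' : Subgroup G) := by
        apply Subgroup.eq_of_le_of_card_ge hP''
        obtain ⟨k, hk⟩ := IsPGroup.iff_card.1 hR2
        rw [hcard'']
        refine hone.trans ?_
        rw [hk] at hlt' ⊢
        refine Nat.pow_le_pow_right (by norm_num) ?_
        have := (Nat.pow_lt_pow_iff_right (by norm_num)).1 (lt_of_le_of_lt hlow hlt')
        omega
      subst hReq
      have hxP'' : x ∈ (P'' : Subgroup G) := by
        refine mem_of_mem_normalizer P'' ((Subgroup.centralizer_le_normalizer _) ?_) (e := 1)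
          (by rw [hx, pow_one])
        exact Subgroup.mem_centralizer_iff.2 fun y hy =>
          Subgroup.mem_centralizer_singleton_iff.1 (hR hy)
      obtain ⟨g, hg⟩ := MulAction.exists_smul_eq G P P''
      have hgaP : g * a * g⁻¹ ∈ (P'' : Subgroup G) := by rw [← hg]; exact ⟨a, haP, rfl⟩
      exact no_central h2 hZ hIH P'' hs
        (by rw [show g * a * g⁻¹ = MulAut.conj g a from rfl, MulEquiv.orderOf_eq, ha])
        (hsemi.conj g) hgaP (hcardx _ (hcard''.le.trans hone) hxP'') hxP'' hx hω
        (Subgroup.mem_centralizer_singleton_iff.1 (hR hgaP))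
    · exact Or.inl h
    · rcases Nat.lt_or_ge s 3 with h3 | h3
      · exfalso
        obtain rfl : s = 2 := by omega
        have h' : x * a * x⁻¹ = a := by rw [h, pow_one, pow_two, inv_mul_cancel_left]
        exact no_central h2 hZ hIH P hs ha hsemi haP hcard hxP hx hω
          (mul_inv_eq_iff_eq_mul.1 h').symm
      · exact Or.inr ⟨h3, h⟩

/-- The structure theorem. -/
theorem small [FaithfulSMul G Ω] [Finite Ω] (h2 : IsMultiplyPretransitive G Ω 2)
    (hZ : ZStab G Ω) : Small G Ω :=
  small_aux (Nat.card Ω + 1) G Ω (Nat.lt_succ_self _) h2 hZ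

end CfsgLib.ZFact
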