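import Cfsg.Agent.Lib.ZFact.Fused

/-!
# Sylow 2-subgroups of a 2-transitive group with Z-group stabilisers and a semiregular 2-element

If a 2-transitive group of even degree with Z-group point stabilisers has a semiregular element of
order `2 ^ s ≥ 4`, the 2-part of the degree, then its Sylow 2-subgroups have order at most
`2 ^ (s + 1)`, and an involution fixing a point inverts that element up to its involution. The proof
is by induction on the degree, through the action of `C(b)` on the fixed points of `b`.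
-/

set_option autoImplicit false
set_option linter.style.haveILetI false
open Cfsg

namespace CfsgLib.ZFact

open MulAction

universe u

variable {G : Type u} [Group G] {Ω : Type u} [MulAction G Ω]

theorem InKer.mul {b x y : G} (hx : InKer Ω b x) (hy : InKer Ω b y) : InKer Ω b (x * y) :=
  fun γ hγ => by rw [mul_smul, hy γ hγ, hx γ hγ]

theorem InKer.inv {b x : G} (hx : InKer Ω b x) : InKer Ω b x⁻¹ := fun γ hγ => by
  conv_lhs => rw [← hx γ hγ, inv_smul_smul]

theorem InKer.zpow {b x : G} (hx : InKer Ω b x) (i : ℤ) : InKer Ω b (x ^ i) := by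
  induction i with
  | zero => intro γ _; rw [zpow_zero, one_smul]
  | succ n ih => rw [zpow_add_one]; exact ih.mul hx
  | pred n ih => rw [zpow_sub_one]; exact ih.mul hx.inv

variable [Finite G]

theorem ZStab.involution_eq (hZ : ZStab G Ω) {P : Subgroup G} (hP : IsPGroup 2 P) {α : Ω}
    {b k : G} (hbP : b ∈ P) (hb : orderOf b = 2) (hbα : b • α = α)
    (hk : k ∈ P ⊓ stabilizer G α) (hk2 : k * k = 1) : k = 1 ∨ k = b := by
  by_cases h1 : k = 1
  · exact Or.inl h1
  right
  haveI := hZ.isCyclic hP α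
  exact hZ.eq_of_commute α (mem_stabilizer_iff.1 hk.2) hbα
    (orderOf_eq_prime (by rw [pow_two]; exact hk2) h1) hb
    (commute_of_isCyclic hk ⟨hbP, hbα⟩)

variable [FaithfulSMul G Ω] [Finite Ω]

omit [FaithfulSMul G Ω] in
theorem even_card_of_semiregular {P : Sylow 2 G} {a : G} {s : ℕ} (hs : 1 ≤ s)
    (ha : orderOf a = 2 ^ s) (hsemi : Semiregular Ω a) (haP : a ∈ (P : Subgroup G)) :
    Even (Nat.card Ω) := by
  haveI : Fact (Nat.Prime 2) := ⟨Nat.prime_two⟩
  by_contra ho
  obtain ⟨γ, hγ⟩ := P.isPGroup'.nonempty_fixed_point_of_prime_not_dvd_card Ω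
    (fun h => ho (even_iff_two_dvd.2 h))
  have h1 := hsemi 1 γ (by rw [zpow_one]; exact mem_fixedPoints.1 hγ ⟨a, haP⟩)
  rw [zpow_one] at h1
  rw [h1, orderOf_one] at ha
  have := Nat.pow_le_pow_right (by norm_num : 1 ≤ 2) hs
  omega

set_option maxHeartbeats 1000000 in
/-- The involution fixing a point does not centralise the semiregular element. -/
theorem no_central (h2 : IsMultiplyPretransitive G Ω 2) (hZ : ZStab G Ω)
    (hIH : SmallBelow.{u} (Nat.card Ω)) (P : Sylow 2 G) {a b : G} {s : ℕ} (hs : 2 ≤ s)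
    (ha : orderOf a = 2 ^ s) (hsemi : Semiregular Ω a) (haP : a ∈ (P : Subgroup G)) {α : Ω}
    (hcard : Nat.card (P : Subgroup G) ≤
      2 ^ s * Nat.card ↥((P : Subgroup G) ⊓ stabilizer G α))
    (hbP : b ∈ (P : Subgroup G)) (hb : orderOf b = 2) (hbα : b • α = α) (hab : a * b = b * a) :
    False := by
  classical
  haveI : Fact (Nat.Prime 2) := ⟨Nat.prime_two⟩
  have hP := P.isPGroup'
  haveI hcyc := hZ.isCyclic hP α
  have hPC : ∀ x ∈ (P : Subgroup G), x * b = b * x := by
    intro x hx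
    obtain ⟨i, w, hw, rfl⟩ := decomposition ha hsemi haP hcard hx
    exact (((show Commute a b from hab).zpow_left i).mul_left
      (commute_of_isCyclic hw ⟨hbP, hbα⟩)).eq
  obtain ⟨v, g, w, j, hvP, -, hgb, hvg, hv2, hjodd, hw, -, hvw, hck, hinv, hsq, hstr⟩ :=
    exists_fused h2 hZ hIH hP hs ha haP hab hsemi hbP hb hbα
      (fun x hx _ => decomposition ha hsemi haP hcard hx)
      (fun Q _ hQ => by
        rw [inf_eq_left.2 (fun x hx => Subgroup.mem_centralizer_singleton_iff.2 (hPC x hx))]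
        obtain ⟨T, hT⟩ := hQ.exists_le_sylow
        exact (Subgroup.card_le_of_le hT).trans (le_of_eq (T.card_eq_multiplicity.trans
          P.card_eq_multiplicity.symm)))
  set z : G := a ^ 2 ^ (s - 1) with hzdef
  have hz : orderOf z = 2 := orderOf_half (by omega) ha
  have hz2 : z * z = 1 := by rw [← pow_two]; exact hz ▸ pow_orderOf_eq_one z
  have hb2 : b * b = 1 := by rw [← pow_two]; exact hb ▸ pow_orderOf_eq_one b
  have hzsemi : ∀ γ : Ω, z • γ ≠ γ := by
    intro γ h
    have h1 := hsemi ((2 ^ (s - 1) : ℕ) : ℤ) γ (by rw [zpow_natCast]; exact h)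
    rw [zpow_natCast, ← hzdef] at h1
    rw [h1, orderOf_one] at hz
    omega
  have hzP : z ∈ (P : Subgroup G) := pow_mem haP _
  have hzb : z * b = b * z := hPC z hzP
  have hfixb : ∀ (y : G), y * b = b * y → ∀ γ : Ω, b • γ = γ → b • y • γ = y • γ :=
    fun y hy γ hγ => by rw [← mul_smul, ← hy, mul_smul, hγ]
  -- the kernel is central in `P`
  have hkerS : ∀ k ∈ (P : Subgroup G), InKer Ω b k → k ∈ (P : Subgroup G) ⊓ stabilizer G α :=
    fun k hk hkk => ⟨hk, mem_stabilizer_iff.2 (hkk α hbα)⟩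
  have hkerC : ∀ k ∈ (P : Subgroup G), InKer Ω b k → ∀ x ∈ (P : Subgroup G), x * k = k * x := by
    intro k hk hkk x hx
    obtain ⟨i, w', hw', rfl⟩ := decomposition ha hsemi haP hcard hx
    have hk' := hkerS k hk hkk
    exact (((show Commute a k from hck k hk' hkk).zpow_left i).mul_left
      (commute_of_isCyclic hw' hk')).eq
  have hkinv : ∀ k ∈ (P : Subgroup G), InKer Ω b k → k * k = 1 → k = 1 ∨ k = b :=
    fun k hk hkk h => hZ.involution_eq hP hbP hb hbα (hkerS k hk hkk) h
  set k0 : G := w * a * w⁻¹ * a with hk0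
  have hk0P : k0 ∈ (P : Subgroup G) := mul_mem (mul_mem (mul_mem hw.1 haP) (inv_mem hw.1)) haP
  have hwconj : ∀ l : ℤ, w * a ^ l * w⁻¹ = k0 ^ l * a ^ (-l) := by
    intro l
    rw [← conj_zpow, show w * a * w⁻¹ = k0 * a⁻¹ by rw [hk0, mul_inv_cancel_right],
      (show Commute k0 a⁻¹ from Commute.inv_right (hkerC k0 hk0P hinv a haP).symm).mul_zpow,
      inv_zpow']
  -- involutions in `P`
  have hleft : ∀ (x : G) (i : ℤ), x ∈ (P : Subgroup G) → x * x = 1 →
      InKer Ω b ((a ^ i)⁻¹ * x) → x = 1 ∨ x = b ∨ x = z ∨ x = z * b := by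
    intro x i hx hx2 hk
    set k : G := (a ^ i)⁻¹ * x with hk'
    have hxk : x = a ^ i * k := by rw [hk', mul_inv_cancel_left]
    have hkP : k ∈ (P : Subgroup G) := mul_mem (inv_mem (zpow_mem haP i)) hx
    have hc : Commute (a ^ i) k := hkerC k hkP hk _ (zpow_mem haP i)
    have h1 : a ^ (i + i) * (k * k) = 1 := by
      rw [zpow_add]
      calc a ^ i * a ^ i * (k * k) = (a ^ i * k) * (a ^ i * k) :=
            (hc.symm.mul_mul_mul_comm (a ^ i) k).symm
        _ = 1 := by rw [← hxk]; exact hx2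
    have h2' : a ^ (i + i) = 1 := by
      apply hsemi _ α
      rw [eq_inv_of_mul_eq_one_left h1]
      exact (hk.mul hk).inv α hbα
    rw [h2', one_mul] at h1
    rcases zpow_eq_one_or_half (by omega) ha (i := i) (by rw [pow_two, ← zpow_add]; exact h2')
      with e | e <;> rcases hkinv k hkP hk h1 with f | f <;> rw [hxk, e, f]
    · exact Or.inl (one_mul 1)
    · exact Or.inr (Or.inl (one_mul b))
    · exact Or.inr (Or.inr (Or.inl (mul_one _)))
    · exact Or.inr (Or.inr (Or.inr rfl))
  have hnzb : ∀ y : G, y * b * y⁻¹ ≠ z := by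
    intro y hy
    apply hzsemi (y • α)
    rw [← hy, mul_smul, mul_smul, inv_smul_smul, hbα]
  -- a conjugate of `b` in `P`
  have hO : Cfsg.oddCore G = ⊥ :=
    CfsgLib.Cores.oddCore_eq_bot_iff.2 fun N hN ho => by
      haveI := hN
      exact oddNormal_eq_bot h2 (even_card_of_semiregular (by omega) ha hsemi haP) N ho
  have hn3 : 3 ≤ Nat.card Ω := by
    refine le_trans ?_ (Nat.card_le_card_of_injective
      (fun q : Subgroup.zpowers a => (q : G) • α) ?_)
    · rw [Nat.card_zpowers, ha]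
      calc 3 ≤ 2 ^ 2 := by norm_num
        _ ≤ 2 ^ s := Nat.pow_le_pow_right (by norm_num) hs
    · rintro ⟨_, i, rfl⟩ ⟨_, k, rfl⟩ h
      apply Subtype.ext
      show a ^ i = a ^ k
      have h' : a ^ i • α = a ^ k • α := h
      have := hsemi (-k + i) α (by rw [zpow_add, zpow_neg, mul_smul, h', inv_smul_smul])
      rw [zpow_add, zpow_neg, inv_mul_eq_one] at this
      exact this.symm
  obtain ⟨g1, hg1P, hg1ne⟩ : ∃ y : G, y * b * y⁻¹ ∈ (P : Subgroup G) ∧ y * b * y⁻¹ ≠ b := by
    by_contra hno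
    push_neg at hno
    have h := CfsgLib.Involutions.mem_center_of_isolated P hb hno hO
    rw [center_eq_bot h2 hn3, Subgroup.mem_bot] at h
    rw [h, orderOf_one] at hb
    omega
  have hzbb : ∃ y : G, y * b * y⁻¹ = z * b := by
    set x : G := g1 * b * g1⁻¹ with hx
    have hx2 : x * x = 1 := by
      rw [hx, conj_mul, hb2, mul_one, mul_inv_cancel]
    have hxb2 : orderOf x = 2 := by
      rw [hx, show g1 * b * g1⁻¹ = MulAut.conj g1 b from rfl, MulEquiv.orderOf_eq, hb]
    have hxfix : ∀ γ : Ω, b • γ = γ → x • γ = γ → False := fun γ hγ hxγ =>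
      hg1ne (hZ.eq_of_commute γ hxγ hγ hxb2 hb (hPC x hg1P))
    obtain ⟨i, hk | hk⟩ := hstr x hg1P (hPC x hg1P)
    · rcases hleft x i hg1P hx2 hk with e | e | e | e
      · rw [e, orderOf_one] at hxb2
        omega
      · exact absurd e hg1ne
      · exact absurd e (hnzb g1)
      · exact ⟨g1, e⟩
    set k : G := (a ^ i * w)⁻¹ * x with hk'
    have hxk : x = a ^ i * w * k := by rw [hk', mul_inv_cancel_left]
    have hkP : k ∈ (P : Subgroup G) := mul_mem (inv_mem (mul_mem (zpow_mem haP i) hw.1)) hg1P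
    rcases Int.even_or_odd (i - j) with ⟨r, hr⟩ | ⟨r, hr⟩
    · -- conjugate to `v` up to the kernel
      set k3 : G := k0 ^ r * k with hk3
      have hk3P : k3 ∈ (P : Subgroup G) := mul_mem (zpow_mem hk0P r) hkP
      have hk3k : InKer Ω b k3 := (hinv.zpow r).mul hk
      have hxv : x = a ^ r * v * a ^ (-r) * k3 := by
        calc x = a ^ r * a ^ j * a ^ r * (k0 ^ (-r) * (k0 ^ r * 1)) * w * k := by
              rw [mul_one, ← zpow_add, ← zpow_add, ← zpow_add, hxk, show i = r + j + r by omega]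
              group
          _ = a ^ r * v * a ^ (-r) * k3 := by
              have h3 : Commute (k0 ^ r) w :=
                (hkerC _ (zpow_mem hk0P r) (hinv.zpow r) w hw.1).symm
              have h4 : w * a ^ (-r) * w⁻¹ = k0 ^ (-r) * a ^ r := by rw [hwconj, neg_neg]
              have h5 : a ^ r * k0 ^ (-r) = k0 ^ (-r) * a ^ r :=
                hkerC _ (zpow_mem hk0P _) (hinv.zpow _) _ (zpow_mem haP r)
              rw [hvw, hk3, show a ^ r * (a ^ j * w) * a ^ (-r) =
                a ^ r * a ^ j * (w * a ^ (-r) * w⁻¹) * w by group, h4, ← h5]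
              simp only [mul_assoc, mul_one]
              rw [← mul_assoc (k0 ^ r) w, h3.eq, mul_assoc]
      set v' : G := a ^ r * v * a ^ (-r) with hv'
      have hv'P : v' ∈ (P : Subgroup G) :=
        mul_mem (mul_mem (zpow_mem haP r) hvP) (zpow_mem haP _)
      have hv'2 : v' * v' = 1 := by
        rw [hv', zpow_neg, conj_mul, ← pow_two, show v ^ 2 = 1 from hv2 ▸ pow_orderOf_eq_one v, mul_one,
          mul_inv_cancel]
      have hk32 : k3 * k3 = 1 := by
        have hc : Commute v' k3 := hkerC k3 hk3P hk3k v' hv'P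
        rw [hxv] at hx2
        calc k3 * k3 = (v' * v') * (k3 * k3) := by rw [hv'2, one_mul]
          _ = v' * k3 * (v' * k3) := (hc.symm.mul_mul_mul_comm v' k3).symm
          _ = 1 := hx2
      have hconj : v' = a ^ r * g * z * (a ^ r * g)⁻¹ := by
        rw [hv', hvg, mul_inv_rev, zpow_neg]
        simp only [mul_assoc]
      rcases hkinv k3 hk3P hk3k hk32 with f | f
      · exfalso
        rw [hxv, f, mul_one, hconj] at hx
        refine hnzb ((a ^ r * g)⁻¹ * g1) ?_
        calc (a ^ r * g)⁻¹ * g1 * b * ((a ^ r * g)⁻¹ * g1)⁻¹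
            = (a ^ r * g)⁻¹ * (g1 * b * g1⁻¹) * (a ^ r * g) := by group
          _ = z := by rw [← hx]; group
      · refine ⟨(a ^ r * g)⁻¹ * g1, ?_⟩
        have hcb : (a ^ r * g) * b = b * (a ^ r * g) :=
          (((show Commute a b from hab).zpow_left r).mul_left hgb).eq
        rw [hxv, f, hconj] at hx
        calc (a ^ r * g)⁻¹ * g1 * b * ((a ^ r * g)⁻¹ * g1)⁻¹
            = (a ^ r * g)⁻¹ * (g1 * b * g1⁻¹) * (a ^ r * g) := by group
          _ = z * (a ^ r * g)⁻¹ * (b * (a ^ r * g)) := by rw [← hx]; group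
          _ = z * b := by rw [← hcb]; group
    · -- a fixed point
      exfalso
      obtain ⟨q, rfl⟩ := hjodd
      have hi : i = (r + q + 1) + (r + q + 1) := by omega
      generalize r + q + 1 = l at hi
      subst hi
      have hfix : a ^ (l + l) * w = a ^ l * w * a ^ (-l) * k0 ^ l := by
        have h4 : w * a ^ (-l) * w⁻¹ = k0 ^ (-l) * a ^ l := by rw [hwconj, neg_neg]
        have h3 : Commute (k0 ^ l) w := (hkerC _ (zpow_mem hk0P l) (hinv.zpow l) w hw.1).symm
        have h5 : k0 ^ (-l) * a ^ l = a ^ l * k0 ^ (-l) :=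
          (hkerC _ (zpow_mem hk0P _) (hinv.zpow _) _ (zpow_mem haP l)).symm
        rw [show a ^ l * w * a ^ (-l) * k0 ^ l = a ^ l * (w * a ^ (-l) * w⁻¹) * (w * k0 ^ l) by
          group, h4, h5, ← h3.eq]
        group
      apply hxfix (a ^ l • α) (hfixb _ ((show Commute a b from hab).zpow_left l).eq α hbα)
      have hbl : b • a ^ l • α = a ^ l • α :=
        hfixb _ ((show Commute a b from hab).zpow_left l).eq α hbα
      rw [hxk, hfix, mul_smul, hk _ hbl, mul_smul, (hinv.zpow l) _ hbl, mul_smul, zpow_neg,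
        inv_smul_smul, mul_smul, mem_stabilizer_iff.1 hw.2]
  obtain ⟨g2, hg2⟩ := hzbb
  -- `z` is central in `P`
  have hwz : w * z = z * w := by
    set k : G := k0 ^ (((2 ^ (s - 1) : ℕ) : ℤ)) with hk'
    have hzinv : z⁻¹ = z := inv_eq_of_mul_eq_one_right hz2
    have h1 : w * z * w⁻¹ = k * z := by
      have := hwconj ((2 ^ (s - 1) : ℕ) : ℤ)
      rw [zpow_neg, zpow_natCast a, ← hzdef, hzinv] at this
      exact this
    have hkP : k ∈ (P : Subgroup G) := zpow_mem hk0P _
    have hkk : InKer Ω b k := hinv.zpow _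
    have hk2 : k * k = 1 := by
      have h3 : (k * z) * (k * z) = 1 := by rw [← h1, conj_mul, hz2, mul_one, mul_inv_cancel]
      have hc : z * k = k * z := hkerC k hkP hkk z hzP
      calc k * k = k * k * (z * z) := by rw [hz2, mul_one]
        _ = k * (z * k) * z := by rw [hc]; group
        _ = 1 := by rw [← h3]; group
    rcases hkinv k hkP hkk hk2 with f | f
    · rw [f, one_mul] at h1
      calc w * z = w * z * w⁻¹ * w := by group
        _ = z * w := by rw [h1]
    · exfalso
      rw [f, ← hzb, ← hg2] at h1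
      apply hnzb (w⁻¹ * g2)
      calc w⁻¹ * g2 * b * (w⁻¹ * g2)⁻¹ = w⁻¹ * (g2 * b * g2⁻¹) * w := by group
        _ = z := by rw [← h1]; group
  have hzcent : ∀ x ∈ (P : Subgroup G), x * z = z * x := by
    intro x hx
    have hzi : ∀ i : ℤ, Commute (a ^ i) z := fun i =>
      ((Commute.refl a).zpow_left i).pow_right _
    obtain ⟨i, hk | hk⟩ := hstr x hx (hPC x hx)
    · have hkc := hkerC _ (mul_mem (inv_mem (zpow_mem haP i)) hx) hk z hzP
      have : x = a ^ i * ((a ^ i)⁻¹ * x) := (mul_inv_cancel_left _ _).symm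
      rw [this]
      exact ((hzi i).mul_left (Commute.symm hkc)).eq
    · have hkc := hkerC _ (mul_mem (inv_mem (mul_mem (zpow_mem haP i) hw.1)) hx) hk z hzP
      have : x = a ^ i * w * ((a ^ i * w)⁻¹ * x) := (mul_inv_cancel_left _ _).symm
      rw [this]
      exact (((hzi i).mul_left hwz).mul_left (Commute.symm hkc)).eq
  -- Burnside
  have hbC : b ∈ Subgroup.centralizer ((P : Subgroup G) : Set G) :=
    Subgroup.mem_centralizer_iff.2 fun x hx => hPC x hx
  have hzbC : g2⁻¹⁻¹ * b * g2⁻¹ ∈ Subgroup.centralizer ((P : Subgroup G) : Set G) := by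
    rw [inv_inv, hg2, Subgroup.mem_centralizer_iff]
    intro x hx
    rw [← mul_assoc, hzcent x hx, mul_assoc, hPC x hx, ← mul_assoc]
  obtain ⟨n0, hn0, hn0e⟩ := P.conj_eq_normalizer_conj_of_mem_centralizer b g2⁻¹ hbC hzbC
  rw [inv_inv, hg2] at hn0e
  set n : G := n0⁻¹ with hn
  have hnN : n ∈ Subgroup.normalizer ((P : Subgroup G) : Set G) := inv_mem hn0
  have hnb : n * b * n⁻¹ = z * b := by rw [hn, inv_inv]; exact hn0e.symm
  set q : G := n * z * n⁻¹ with hq
  have hqP : q ∈ (P : Subgroup G) := (Subgroup.mem_normalizer_iff.1 hnN z).1 hzP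
  have hqc : ∀ x ∈ (P : Subgroup G), x * q = q * x := by
    intro x hx
    have hx' : n⁻¹ * x * n ∈ (P : Subgroup G) := by
      have := (Subgroup.mem_normalizer_iff.1 (inv_mem hnN) x).1 hx
      rw [show n⁻¹⁻¹ = n from inv_inv n] at this
      exact this
    calc x * q = n * ((n⁻¹ * x * n) * z) * n⁻¹ := by rw [hq]; group
      _ = n * (z * (n⁻¹ * x * n)) * n⁻¹ := by rw [hzcent _ hx']
      _ = q * x := by rw [hq]; group
  have hqz : q = z := by
    have hq2 : q * q = 1 := by rw [hq, conj_mul, hz2, mul_one, mul_inv_cancel]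
    obtain ⟨i, hk | hk⟩ := hstr q hqP (hPC q hqP)
    · rcases hleft q i hqP hq2 hk with e | e | e | e
      · exfalso
        have : z = 1 := by
          calc z = n⁻¹ * q * n := by rw [hq]; group
            _ = 1 := by rw [e]; group
        rw [this, orderOf_one] at hz
        omega
      · exfalso
        apply hnzb n⁻¹
        rw [← e, hq]
        group
      · exact e
      · exfalso
        rw [← hnb, hq] at e
        have h := mul_left_cancel (mul_right_cancel e)
        exact hzsemi α (h ▸ hbα)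
    · exfalso
      have hkc := hkerC _ (mul_mem (inv_mem (mul_mem (zpow_mem haP i) hw.1)) hqP) hk a haP
      have hq' : q = a ^ i * w * ((a ^ i * w)⁻¹ * q) := (mul_inv_cancel_left _ _).symm
      set k : G := (a ^ i * w)⁻¹ * q with hk'
      have h1 := hqc a haP
      rw [hq'] at h1
      have h6 : a * w = w * a := by
        have h2' : a ^ i * (a * w) * k = a ^ i * (w * a) * k := by
          calc a ^ i * (a * w) * k = a * (a ^ i * w * k) := by group
            _ = a ^ i * w * k * a := h1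
            _ = a ^ i * w * (a * k) := by rw [hkc, mul_assoc]
            _ = a ^ i * (w * a) * k := by group
        exact mul_left_cancel (mul_right_cancel h2')
      have h7 : k0 = a ^ (2 : ℤ) := by
        rw [hk0, ← h6, mul_inv_cancel_right, zpow_two]
      have h8 := hsemi 2 α (by rw [← h7]; exact hinv α hbα)
      rw [← orderOf_dvd_iff_zpow_eq_one, ha] at h8
      have := Int.le_of_dvd (by norm_num) h8
      have h9 : 2 ^ 2 ≤ 2 ^ s := Nat.pow_le_pow_right (by norm_num) hs
      have h10 : 2 ^ s ≤ 2 := by exact_mod_cast this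
      omega
  have hswap : n * (z * b) * n⁻¹ = b := by
    rw [show n * (z * b) * n⁻¹ = q * (n * b * n⁻¹) by rw [hq]; group, hqz, hnb, ← mul_assoc, hz2,
      one_mul]
  have hnn : Commute (n * n) b := by
    rw [Commute, SemiconjBy, ← mul_inv_eq_iff_eq_mul]
    rw [show n * n * b * (n * n)⁻¹ = n * (n * b * n⁻¹) * n⁻¹ by group, hnb, hswap]
  obtain ⟨e, m, hm, hnm⟩ := Nat.exists_eq_two_pow_mul_odd (orderOf_pos n).ne'
  have hmemP : n ^ m ∈ (P : Subgroup G) :=
    mem_of_mem_normalizer P (pow_mem hnN m) (e := e) (orderOf_dvd_of_pow_eq_one (by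
      rw [← pow_mul, mul_comm m, ← hnm, pow_orderOf_eq_one]))
  obtain ⟨r, rfl⟩ := hm
  have h1 := hPC _ hmemP
  rw [pow_succ, pow_mul, pow_two] at h1
  have h2' : n * b = b * n := by
    have hr := (hnn.pow_left r).eq
    apply mul_left_cancel (a := (n * n) ^ r)
    calc (n * n) ^ r * (n * b) = (n * n) ^ r * n * b := by rw [mul_assoc]
      _ = b * ((n * n) ^ r * n) := h1
      _ = (n * n) ^ r * (b * n) := by rw [← mul_assoc, ← hr, mul_assoc]
  rw [h2', mul_inv_cancel_right] at hnb
  have : z = 1 := (mul_eq_right).1 hnb.symm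
  rw [this, orderOf_one] at hz
  omega

set_option maxHeartbeats 1000000 in
/-- The involution fixing a point does not centralise the square of the semiregular element. -/
theorem no_semicentral (h2 : IsMultiplyPretransitive G Ω 2) (hZ : ZStab G Ω)
    (hIH : SmallBelow.{u} (Nat.card Ω)) {P : Subgroup G} (hP : IsPGroup 2 P) {a b : G} {s : ℕ}
    (hs : 3 ≤ s) (ha : orderOf a = 2 ^ s) (hsemi : Semiregular Ω a) (haP : a ∈ P) {α : Ω}
    (hcard : Nat.card P ≤ 2 ^ s * Nat.card ↥(P ⊓ stabilizer G α))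
    (hbP : b ∈ P) (hb : orderOf b = 2) (hbα : b • α = α)
    (hrel : b * a * b⁻¹ = a * a ^ 2 ^ (s - 1))
    (hmax : ∀ Q : Subgroup G, Q ≤ Subgroup.centralizer ({b} : Set G) → IsPGroup 2 Q →
      Nat.card Q ≤ Nat.card ↥(P ⊓ Subgroup.centralizer ({b} : Set G))) : False := by
  classical
  haveI : Fact (Nat.Prime 2) := ⟨Nat.prime_two⟩
  haveI hcyc := hZ.isCyclic hP α
  set z : G := a ^ 2 ^ (s - 1) with hzdef
  have hz : orderOf z = 2 := orderOf_half (by omega) ha
  have hz2 : z * z = 1 := by rw [← pow_two]; exact hz ▸ pow_orderOf_eq_one z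
  have hzinv : z⁻¹ = z := inv_eq_of_mul_eq_one_right hz2
  have hb2 : b * b = 1 := by rw [← pow_two]; exact hb ▸ pow_orderOf_eq_one b
  have hzsemi : ∀ γ : Ω, z • γ ≠ γ := by
    intro γ h
    have h1 := hsemi ((2 ^ (s - 1) : ℕ) : ℤ) γ (by rw [zpow_natCast]; exact h)
    rw [zpow_natCast, ← hzdef] at h1
    rw [h1, orderOf_one] at hz
    omega
  have haz : Commute a z := (Commute.refl a).pow_right _
  have hc : orderOf (a ^ 2) = 2 ^ (s - 1) := by
    rw [orderOf_pow, ha, Nat.gcd_eq_right (dvd_pow_self 2 (by omega))]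
    exact Nat.div_eq_of_eq_mul_left (by norm_num) (by rw [← pow_succ]; congr 1; omega)
  have hcz : (a ^ 2) ^ 2 ^ (s - 1 - 1) = z := by
    rw [← pow_mul, hzdef, ← pow_succ']
    congr 2
    omega
  have hcb : Commute (a ^ 2) b := by
    have h1 : b * a ^ 2 * b⁻¹ = a ^ 2 := by
      rw [← conj_pow, hrel, haz.mul_pow, pow_two z, hz2, mul_one]
    exact (mul_inv_eq_iff_eq_mul.1 h1).symm
  have hzb : z * b = b * z := by rw [← hcz]; exact (hcb.pow_left _).eq
  have haba : a⁻¹ * b * a = z * b := by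
    rw [show a⁻¹ * b * a = a⁻¹ * (b * a * b⁻¹) * b by group, hrel, inv_mul_cancel_left]
  have haba' : a * b * a⁻¹ = z * b := by
    have h1 : b * a⁻¹ * b⁻¹ = a⁻¹ * z := by
      rw [← conj_inv, hrel, mul_inv_rev, hzinv]
      exact (haz.inv_left).eq.symm
    rw [show a * b * a⁻¹ = a * (b * a⁻¹ * b⁻¹) * b by group, h1, mul_inv_cancel_left]
  have hnab : ¬ a * b = b * a := by
    intro h
    rw [h.symm, mul_inv_cancel_right] at hrel
    have : z = 1 := mul_eq_left.1 hrel.symm
    rw [this, orderOf_one] at hz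
    omega
  have hwb : ∀ w ∈ P ⊓ stabilizer G α, Commute w b := fun w hw =>
    commute_of_isCyclic hw ⟨hbP, hbα⟩
  have heven : ∀ x ∈ P, x * b = b * x →
      ∃ i : ℤ, ∃ w ∈ P ⊓ stabilizer G α, x = (a ^ 2) ^ i * w := by
    intro x hx hxb
    obtain ⟨i, w, hw, rfl⟩ := decomposition ha hsemi haP hcard hx
    rcases Int.even_or_odd i with ⟨r, rfl⟩ | ⟨r, rfl⟩
    · exact ⟨r, w, hw, by rw [← zpow_natCast, ← zpow_mul, ← two_mul]; push_cast; rfl⟩
    · exfalso
      apply hnab
      have hc2 : Commute (a ^ (2 * r)) b := by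
        rw [show (2 : ℤ) * r = ((2 : ℕ) : ℤ) * r by norm_num, zpow_mul, zpow_natCast]
        exact hcb.zpow_left r
      have h1 : Commute (a ^ (2 * r + 1) * w) b := hxb
      have h2' := (hc2.inv_left.mul_left h1).mul_left (hwb w hw).inv_left
      have heq : (a ^ (2 * r))⁻¹ * (a ^ (2 * r + 1) * w) * w⁻¹ = a := by group
      rw [heq] at h2'
      exact h2'.eq
  have hcon : ∀ x ∈ P, x * b = b * x → a⁻¹ * x * a * b = b * (a⁻¹ * x * a) := by
    intro x hx hxb
    obtain ⟨i, w, hw, he⟩ := decomposition ha hsemi haP hcard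
      (mul_mem (mul_mem (inv_mem haP) hx) haP : a⁻¹ * x * a ∈ P)
    rcases Int.even_or_odd i with ⟨r, rfl⟩ | ⟨r, rfl⟩
    · rw [he, show a ^ (r + r) = (a ^ 2) ^ r by
        rw [← zpow_natCast, ← zpow_mul, ← two_mul]; push_cast; rfl]
      exact ((hcb.zpow_left r).mul_left (hwb w hw)).eq
    · exfalso
      apply hnab
      have h1 : a = x⁻¹ * ((a ^ 2) ^ (r + 1) * w) := by
        rw [show (a ^ 2) ^ (r + 1) = a * a ^ (2 * r + 1) by
          rw [← zpow_natCast, ← zpow_mul, ← zpow_one_add]; push_cast; congr 1; ring,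
          mul_assoc, ← he]
        group
      rw [h1]
      exact ((show Commute x b from hxb).inv_left.mul_left
        ((hcb.zpow_left _).mul_left (hwb w hw))).eq
  obtain ⟨v, g, w, j, hvP, -, -, -, hv2, hjodd, hw, hwker, hvw, hck, hinv, hsq, hstr⟩ :=
    exists_fused h2 hZ hIH hP (t := s - 1) (by omega) hc (pow_mem haP 2) hcb.eq
      (fun i ω h => by
        rw [← zpow_natCast, ← zpow_mul] at h ⊢
        exact hsemi _ _ h) hbP hb hbα heven hmax
  set c : G := a ^ 2 with hcdef
  have hsemic : ∀ i : ℤ, c ^ i • α = α → c ^ i = 1 := by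
    intro i h
    rw [hcdef, ← zpow_natCast, ← zpow_mul] at h ⊢
    exact hsemi _ _ h
  have hkerS : ∀ k ∈ P, InKer Ω b k → k ∈ P ⊓ stabilizer G α :=
    fun k hk hkk => ⟨hk, mem_stabilizer_iff.2 (hkk α hbα)⟩
  have hbker : InKer Ω b b := fun γ h => h
  have hw2 : w * w ≠ 1 := by
    intro h
    rcases hZ.involution_eq hP hbP hb hbα hw h with f | f
    · exact hwker (f ▸ fun γ _ => one_smul G γ)
    · exact hwker (f ▸ hbker)
  obtain ⟨i, hk | hk⟩ := hstr (a⁻¹ * w * a) (mul_mem (mul_mem (inv_mem haP) hw.1) haP)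
    (hcon w hw.1 (hwb w hw).eq)
  · -- the rotation case
    set k : G := (c ^ i)⁻¹ * (a⁻¹ * w * a) with hk'
    have hkP : k ∈ P := mul_mem (inv_mem (zpow_mem (pow_mem haP 2) i))
      (mul_mem (mul_mem (inv_mem haP) hw.1) haP)
    have hck' : Commute c k := hck k (hkerS k hkP hk) hk
    have hv' : a⁻¹ * v * a = c ^ (j + i) * k := by
      rw [hk', zpow_add, hvw, mul_assoc (c ^ j) (c ^ i), mul_inv_cancel_left]
      have : Commute a⁻¹ (c ^ j) := ((Commute.refl a).pow_right 2).inv_left.zpow_right j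
      calc a⁻¹ * (c ^ j * w) * a = a⁻¹ * c ^ j * w * a := by group
        _ = c ^ j * (a⁻¹ * w * a) := by rw [this.eq]; group
    have hv'2 : (c ^ (j + i) * k) * (c ^ (j + i) * k) = 1 := by
      rw [← hv']
      have hv22 : v * v = 1 := by rw [← pow_two]; exact hv2 ▸ pow_orderOf_eq_one v
      calc a⁻¹ * v * a * (a⁻¹ * v * a) = a⁻¹ * (v * v) * a := by group
        _ = 1 := by rw [hv22]; group
    set l : ℤ := j + i with hl
    have hcl : Commute (c ^ l) k := hck'.zpow_left l
    have h1 : c ^ (l + l) * (k * k) = 1 := by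
      rw [zpow_add]
      exact (hcl.symm.mul_mul_mul_comm (c ^ l) k).symm.trans hv'2
    have h3 : c ^ (l + l) = 1 := by
      apply hsemic
      rw [eq_inv_of_mul_eq_one_left h1]
      exact (hk.mul hk).inv α hbα
    rw [h3, one_mul] at h1
    have hvv : v = a * (c ^ l * k) * a⁻¹ := by rw [← hv']; group
    have hodd : ∀ m : ℕ, c ^ ((m : ℤ) * 2 - j) = 1 → False := by
      intro m h
      rw [← orderOf_dvd_iff_zpow_eq_one, hc] at h
      obtain ⟨q, rfl⟩ := hjodd
      have h2' : (2 : ℤ) ∣ (m : ℤ) * 2 - (2 * q + 1) := by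
        refine dvd_trans ?_ h
        push_cast
        exact dvd_pow_self 2 (by omega)
      omega
    have hwfix : (c ^ (-j) * v) • α = α := by
      rw [hvw, zpow_neg, inv_mul_cancel_left]
      exact mem_stabilizer_iff.1 hw.2
    have hz' : z = c ^ (((2 ^ (s - 1 - 1 - 1) : ℕ) : ℤ) * 2) := by
      rw [← hcz, ← zpow_natCast]
      congr 1
      rw [show s - 1 - 1 = s - 1 - 1 - 1 + 1 by omega, pow_succ]
      push_cast
      rfl
    rcases zpow_eq_one_or_half (by omega) hc (i := l) (by rw [pow_two, ← zpow_add]; exact h3)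
      with e | e <;> rcases hZ.involution_eq hP hbP hb hbα (hkerS k hkP hk) h1 with f | f
    · rw [e, f, one_mul, mul_one, mul_inv_cancel] at hvv
      rw [hvv, orderOf_one] at hv2
      omega
    · -- `v = z b`
      rw [e, f, one_mul, haba'] at hvv
      refine hodd (2 ^ (s - 1 - 1 - 1)) (hsemic _ ?_)
      rw [hvv, hz', ← mul_assoc, ← zpow_add, mul_smul, hbα] at hwfix
      rwa [sub_eq_add_neg, add_comm]
    · rw [e, f, mul_one, hcz, haz.eq, mul_inv_cancel_right] at hvv
      refine hodd (2 ^ (s - 1 - 1 - 1)) (hsemic _ ?_)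
      rw [hvv, hz', ← zpow_add] at hwfix
      rwa [sub_eq_add_neg, add_comm]
    · rw [e, f, hcz, show a * (z * b) * a⁻¹ = (a * z * a⁻¹) * (a * b * a⁻¹) by group, haz.eq,
        mul_inv_cancel_right, haba', ← mul_assoc, hz2, one_mul] at hvv
      refine hodd 0 (hsemic _ ?_)
      rw [hvv, mul_smul, hbα] at hwfix
      simpa using hwfix
  · -- the reflection case
    set k : G := (c ^ i * w)⁻¹ * (a⁻¹ * w * a) with hk'
    have hkP : k ∈ P := mul_mem (inv_mem (mul_mem (zpow_mem (pow_mem haP 2) i) hw.1))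
      (mul_mem (mul_mem (inv_mem haP) hw.1) haP)
    have hy : a⁻¹ * w * a = c ^ i * w * k := by rw [hk', mul_inv_cancel_left]
    have hkm := hkerS k hkP hk
    have hk0m : w * c * w⁻¹ * c ∈ P ⊓ stabilizer G α :=
      hkerS _ (mul_mem (mul_mem (mul_mem hw.1 (pow_mem haP 2)) (inv_mem hw.1)) (pow_mem haP 2)) hinv
    set k0 : G := w * c * w⁻¹ * c with hk0
    have hck0 : Commute c k0 := hck k0 hk0m hinv
    have hwk : Commute w k := commute_of_isCyclic hw hkm
    have hkk0 : Commute k k0 := commute_of_isCyclic hkm hk0m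
    have hwc : w * c ^ i = k0 ^ i * c ^ (-i) * w := by
      have h1 : w * c ^ i * w⁻¹ = k0 ^ i * c ^ (-i) := by
        rw [← conj_zpow, show w * c * w⁻¹ = k0 * c⁻¹ by rw [hk0, mul_inv_cancel_right],
          (hck0.symm.inv_right).mul_zpow, inv_zpow']
      rw [← h1, inv_mul_cancel_right]
    have hsq' : InKer Ω b ((a⁻¹ * w * a) * (a⁻¹ * w * a)) := by
      have h1 : (a⁻¹ * w * a) * (a⁻¹ * w * a) = k0 ^ i * (w * w) * (k * k) := by
        rw [hy]
        calc c ^ i * w * k * (c ^ i * w * k)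
            = c ^ i * w * (k * c ^ i) * (w * k) := by group
          _ = c ^ i * (w * c ^ i) * (k * w) * k := by
              rw [← (Commute.zpow_left (show Commute c k from hck k hkm hk) i).eq]; group
          _ = c ^ i * (k0 ^ i * c ^ (-i) * w) * (w * k) * k := by rw [hwc, ← hwk.eq]
          _ = (c ^ i * k0 ^ i) * c ^ (-i) * (w * w) * (k * k) := by group
          _ = k0 ^ i * (w * w) * (k * k) := by rw [((hck0.zpow_left i).zpow_right i).eq]; group
      rw [h1]
      exact ((hinv.zpow i).mul hsq).mul (hk.mul hk)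
    -- the involution in the powers of `w * w` fixes `a • α`
    obtain ⟨e, he⟩ := IsPGroup.iff_orderOf.1 hP ⟨w * w, mul_mem hw.1 hw.1⟩
    rw [Subgroup.orderOf_mk] at he
    rcases e with _ | e
    · exact hw2 (orderOf_eq_one_iff.1 (by simpa using he))
    have hord : orderOf ((w * w) ^ 2 ^ e) = 2 := by
      simpa using orderOf_half (a := w * w) (s := e + 1) (by omega) he
    have hwwfix : (w * w) • a • α = a • α := by
      have h1 := hsq' α hbα
      rw [show a⁻¹ * w * a * (a⁻¹ * w * a) = a⁻¹ * (w * w) * a by group, mul_smul, mul_smul] at h1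
      exact (smul_left_cancel a⁻¹ (h1.trans (inv_smul_smul a α).symm))
    have hpfix : (w * w) ^ 2 ^ e • a • α = a • α :=
      mem_stabilizer_iff.1 (pow_mem (mem_stabilizer_iff.2 hwwfix) _)
    have hpb : (w * w) ^ 2 ^ e = b := by
      rcases hZ.involution_eq hP hbP hb hbα
        (pow_mem (mul_mem hw hw) (2 ^ e) : (w * w) ^ 2 ^ e ∈ P ⊓ stabilizer G α)
        (by have hh := pow_orderOf_eq_one ((w * w) ^ 2 ^ e); rw [hord, pow_two] at hh; exact hh) with f | f
      · rw [f, orderOf_one] at hord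
        omega
      · exact f
    rw [hpb] at hpfix
    apply hzsemi α
    calc z • α = (z * b) • α := by rw [mul_smul, hbα]
      _ = a⁻¹ • b • a • α := by rw [← haba, mul_smul, mul_smul]
      _ = α := by rw [hpfix, inv_smul_smul]

end CfsgLib.ZFact
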